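import Groth.Agent.L12.GenusZero.BaseChange
import Groth.Agent.L17.BC.ClassesPull
import Groth.Agent.L16.AffineBC.Pullback
import Mathlib.RingTheory.Localization.AtPrime.Basic

/-!
# Vanishing of `R¹f_*O` near a fibre, after arbitrary base change
-/

set_option autoImplicit false
set_option linter.style.haveILetI false
set_option linter.unusedSectionVars false
set_option backward.isDefEq.respectTransparency false
set_option backward.isDefEq.respectTransparency.types false

universe u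

open CategoryTheory CategoryTheory.Limits AlgebraicGeometry TopologicalSpace Opposite
open scoped TensorProduct

noncomputable section

namespace Groth.L12.GenusZero

open Groth.L17.BC (fV fV_fromSpec)
open Groth.L17.BC.Classes (isPullback_fV)

/-- Base change of vanishing and of surjectivity, affine case. -/
theorem baseChange {A : Type u} [CommRing A] {X : Scheme.{u}} (f : X ⟶ Spec (CommRingCat.of A)) [IsProper f]
    (hd : ∀ y, topologicalKrullDim ↥(f.fiber y) ≤ 1) (h1 : Subsingleton (Coh.HH X (Coh.structureModule X) 1))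
    {B : Type u} [CommRing B] [Algebra A B] {X' : Scheme.{u}} (f' : X' ⟶ Spec (CommRingCat.of B)) (g : X' ⟶ X)
    (sq : IsPullback g f' f (Spec.map (CommRingCat.ofHom (algebraMap A B)))) :
    Subsingleton (Coh.HH X' (Coh.structureModule X') 1) ∧
      (Function.Surjective (Coh.toGlobal f) → Function.Surjective (Coh.toGlobal f')) := by
  let P := MvPolynomial B A
  letI : Algebra P B := (MvPolynomial.aeval (R := A) (fun b : B => b)).toRingHom.toAlgebra
  have hq : Function.Surjective (algebraMap P B) := fun b => ⟨MvPolynomial.X b, by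
    show MvPolynomial.aeval (R := A) (fun b : B => b) (MvPolynomial.X b) = b
    rw [MvPolynomial.aeval_X]⟩
  have hcomp : Spec.map (CommRingCat.ofHom (algebraMap A B)) =
      Spec.map (CommRingCat.ofHom (algebraMap P B)) ≫ Spec.map (CommRingCat.ofHom (algebraMap A P)) := by
    rw [← Spec.map_comp, ← CommRingCat.ofHom_comp]
    congr 2
    exact RingHom.ext fun a => ((MvPolynomial.aeval (R := A) (fun b : B => b)).commutes a).symm
  let ψ := Spec.map (CommRingCat.ofHom (algebraMap A P))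
  let g₁ := pullback.fst f ψ
  let f₁ := pullback.snd f ψ
  have sq₁ : IsPullback g₁ f₁ f ψ := IsPullback.of_hasPullback _ _
  haveI : IsProper f₁ := MorphismProperty.of_isPullback sq₁ inferInstance
  have hv := subsingleton_h1_flat f h1 f₁ g₁ sq₁
  have hd₁ : ∀ z, topologicalKrullDim ↥(f₁.fiber z) ≤ 1 := fun z => fiber_dim_le_of_isPullback sq₁ z (hd _)
  let j : X' ⟶ pullback f ψ := pullback.lift g (f' ≫ Spec.map (CommRingCat.ofHom (algebraMap P B))) (by
    rw [Category.assoc, ← hcomp]; exact sq.w)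
  have big : IsPullback (j ≫ g₁) f' f
      (Spec.map (CommRingCat.ofHom (algebraMap P B)) ≫ ψ) := by
    rw [show j ≫ g₁ = g from pullback.lift_fst _ _ _, ← hcomp]; exact sq
  have sq₂ : IsPullback j f' f₁ (Spec.map (CommRingCat.ofHom (algebraMap P B))) :=
    IsPullback.of_right big (pullback.lift_snd _ _ _) sq₁
  obtain ⟨hv', hs'⟩ := closed_baseChange f₁ hv (rightExact_affine f₁ hd₁) f' j sq₂ hq
  exact ⟨hv', fun h => hs' (surjective_toGlobal_flat f f₁ g₁ sq₁ h)⟩

/-- The same for any morphism of affine schemes. -/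
theorem baseChange_spec {R S : CommRingCat.{u}} {X : Scheme.{u}} (f : X ⟶ Spec R) [IsProper f]
    (hd : ∀ y, topologicalKrullDim ↥(f.fiber y) ≤ 1) (h1 : Subsingleton (Coh.HH X (Coh.structureModule X) 1))
    {X' : Scheme.{u}} (f' : X' ⟶ Spec S) (g : X' ⟶ X) (ψ : Spec S ⟶ Spec R) (sq : IsPullback g f' f ψ) :
    Subsingleton (Coh.HH X' (Coh.structureModule X') 1) ∧
      (Function.Surjective (Coh.toGlobal (A := R) f) → Function.Surjective (Coh.toGlobal (A := S) f')) := by
  letI : Algebra R S := (Spec.preimage ψ).hom.toAlgebra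
  exact baseChange (A := R) (B := S) f hd h1 f' g (by
    rw [show Spec.map (CommRingCat.ofHom (algebraMap R S)) = ψ from Spec.map_preimage ψ]; exact sq)

variable {X Y : Scheme.{u}} (f : X ⟶ Y) [IsProper f]

theorem fiber_dim_fV {V : Y.Opens} (hV : IsAffineOpen V) {d : WithBot ℕ∞}
    (h : ∀ y ∈ V, topologicalKrullDim ↥(f.fiber y) ≤ d) (z) : topologicalKrullDim ↥((fV f hV).fiber z) ≤ d :=
  fiber_dim_le_of_isPullback (isPullback_fV f hV) z (h _ (hV.range_fromSpec.le ⟨z, rfl⟩))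

theorem isProper_fV {V : Y.Opens} (hV : IsAffineOpen V) : IsProper (fV f hV) :=
  MorphismProperty.of_isPullback (isPullback_fV f hV) inferInstance

/-- Vanishing over an affine open all of whose closed fibres are good. -/
theorem subsingleton_h1_over {V : Y.Opens} (hV : IsAffineOpen V)
    (hd : ∀ y ∈ V, topologicalKrullDim ↥(f.fiber y) ≤ 1)
    (hH1 : ∀ y ∈ V, Subsingleton (Coh.HH (f.fiber y) (Coh.structureModule (f.fiber y)) 1)) :
    Subsingleton (Coh.HH (f ⁻¹ᵁ V).toScheme (Coh.structureModule (f ⁻¹ᵁ V).toScheme) 1) := by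
  haveI := isProper_fV f hV
  exact subsingleton_h1_structure (A := Γ(Y, V)) (fV f hV) (fiber_dim_fV f hV hd) f hV.fromSpec (f ⁻¹ᵁ V).ι
    (isPullback_fV f hV) fun z _ => ⟨hd _ (hV.range_fromSpec.le ⟨z, rfl⟩), hH1 _ (hV.range_fromSpec.le ⟨z, rfl⟩)⟩

/-- A point with a good fibre has an affine neighbourhood with good fibre dimensions and no `H¹`. -/
theorem exists_good_nhd (y : Y) (hdim : topologicalKrullDim ↥(f.fiber y) ≤ 1)
    (hH1 : Subsingleton (Coh.HH (f.fiber y) (Coh.structureModule (f.fiber y)) 1)) :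
    ∃ (V : Y.Opens) (hV : IsAffineOpen V), y ∈ V ∧ (∀ y' ∈ V, topologicalKrullDim ↥(f.fiber y') ≤ 1) ∧
      ∀ (S : CommRingCat.{u}) (X' : Scheme.{u}) (f' : X' ⟶ Spec S) (g : X' ⟶ X) (b : Spec S ⟶ Y),
        IsPullback g f' f b → Set.range b ⊆ V → Subsingleton (Coh.HH X' (Coh.structureModule X') 1) := by
  classical
  obtain ⟨_, ⟨V, hV, rfl⟩, hyV, hVU⟩ := Y.isBasis_affineOpens.exists_subset_of_mem_open
    (show y ∈ {s : Y | topologicalKrullDim ↥(f.fiber s) ≤ 1} from hdim)
    (Groth.L07.FibreDim.isOpen_fiber_dim_le f f.isClosedMap _)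
  replace hV : IsAffineOpen V := hV
  have hdV : ∀ y' ∈ V, topologicalKrullDim ↥(f.fiber y') ≤ 1 := fun y' h => hVU h
  haveI := isProper_fV f hV
  let f₀ := fV f hV
  let A := Γ(Y, V)
  let X₀ := (f ⁻¹ᵁ V).toScheme
  have hd₀ := fiber_dim_fV f hV hdV
  let p := hV.primeIdealOf ⟨y, hyV⟩
  let Ap := Localization.AtPrime p.asIdeal
  let ψ := Spec.map (CommRingCat.ofHom (algebraMap A Ap))
  haveI : IsPreimmersion ψ := IsPreimmersion.of_isLocalization p.asIdeal.primeCompl
  let g₁ := pullback.fst f₀ ψ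
  let f₁ := pullback.snd f₀ ψ
  have sq₁ : IsPullback g₁ f₁ f₀ ψ := IsPullback.of_hasPullback _ _
  haveI : IsProper f₁ := MorphismProperty.of_isPullback sq₁ inferInstance
  have hp1 : Subsingleton (Coh.HH (pullback f₀ ψ) (Coh.structureModule (pullback f₀ ψ)) 1) := by
    refine subsingleton_h1_structure f₁ (fun z => fiber_dim_le_of_isPullback sq₁ z (hd₀ _)) f
      (ψ ≫ hV.fromSpec) (g₁ ≫ (f ⁻¹ᵁ V).ι) (sq₁.paste_horiz (isPullback_fV f hV)) fun z hz => ?_
    have hzc : z = IsLocalRing.closedPoint Ap :=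
      PrimeSpectrum.ext (IsLocalRing.eq_maximalIdeal ((PrimeSpectrum.isClosed_singleton_iff_isMaximal z).1 hz))
    have hzy : (ψ ≫ hV.fromSpec) z = y := by
      rw [hzc, Scheme.Hom.comp_apply, show ψ (IsLocalRing.closedPoint Ap) = p from
        PrimeSpectrum.ext (IsLocalization.AtPrime.comap_maximalIdeal Ap p.asIdeal)]
      exact hV.fromSpec_primeIdealOf ⟨y, hyV⟩
    rw [hzy]
    exact ⟨hdim, hH1⟩
  haveI : Coh.IsQCoh (Coh.structureModule X₀) := (isCoh_structure_any X₀).1
  letI : Module A (Coh.HH X₀ (Coh.structureModule X₀) 1) := Module.compHom _ (Coh.toGlobal f₀)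
  haveI : Module.Finite A (Coh.HH X₀ (Coh.structureModule X₀) 1) :=
    Groth.L19.VanishFibre.finite_HH_top (A := A) f₀ (d := 1) hd₀ _ (isCoh_structure_any X₀)
  haveI : Module.Flat A Ap := IsLocalization.flat Ap p.asIdeal.primeCompl
  obtain ⟨e⟩ := Groth.L16.Rees.exists_flat_bc_equiv f₀ f₁ g₁ sq₁ (Coh.structureModule X₀) 1
  haveI : Subsingleton (Ap ⊗[A] Coh.HH X₀ (Coh.structureModule X₀) 1) :=
    haveI := subsingleton_of_iso (Groth.L29.LocFree.pullbackUnitIso g₁).symm 1
    e.toEquiv.subsingleton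
  haveI : IsLocalizedModule p.asIdeal.primeCompl (TensorProduct.mk A Ap (Coh.HH X₀ (Coh.structureModule X₀) 1) 1) :=
    (isLocalizedModule_iff_isBaseChange p.asIdeal.primeCompl Ap _).2 (TensorProduct.isBaseChange A _ Ap)
  have hkill : ∀ x : Coh.HH X₀ (Coh.structureModule X₀) 1, ∃ c : p.asIdeal.primeCompl, c • x = 0 := fun x => by
    obtain ⟨c, hc⟩ := IsLocalizedModule.exists_of_eq (S := p.asIdeal.primeCompl)
      (f := TensorProduct.mk A Ap (Coh.HH X₀ (Coh.structureModule X₀) 1) 1) (x₁ := x) (x₂ := 0)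
      (Subsingleton.elim _ _)
    exact ⟨c, hc.trans (smul_zero _)⟩
  choose c hc using hkill
  obtain ⟨G, hG⟩ := Module.Finite.fg_top (R := A) (M := Coh.HH X₀ (Coh.structureModule X₀) 1)
  let s : A := ∏ x ∈ G, (c x : A)
  have hsp : s ∉ p.asIdeal := (∏ x ∈ G, c x).2 |> fun h => by
    rw [Submonoid.coe_finsetProd] at h; exact h
  have hs : ∀ x : Coh.HH X₀ (Coh.structureModule X₀) 1, s • x = 0 := fun x => by
    induction (show x ∈ Submodule.span A (G : Set (Coh.HH X₀ (Coh.structureModule X₀) 1)) from hG.ge trivial)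
      using Submodule.span_induction with
    | mem z hz =>
      obtain ⟨r, hr⟩ : (c z : A) ∣ s := Finset.dvd_prod_of_mem (fun w => (c w : A)) hz
      rw [hr, mul_comm, mul_smul, show (c z : A) • z = 0 from hc z, smul_zero]
    | zero => exact smul_zero _
    | add z w _ _ hz hw => rw [smul_add, hz, hw, add_zero]
    | smul a z _ hz => rw [smul_comm, hz, smul_zero]
  let As := Localization.Away s
  let φ := Spec.map (CommRingCat.ofHom (algebraMap A As))
  haveI : IsOpenImmersion φ := IsOpenImmersion.of_isLocalization s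
  let g₂ := pullback.fst f₀ φ
  let f₂ := pullback.snd f₀ φ
  have sq₂ : IsPullback g₂ f₂ f₀ φ := IsPullback.of_hasPullback _ _
  haveI : IsProper f₂ := MorphismProperty.of_isPullback sq₂ inferInstance
  haveI : Module.Flat A As := IsLocalization.flat As (Submonoid.powers s)
  have hv₂ : Subsingleton (Coh.HH (pullback f₀ φ) (Coh.structureModule (pullback f₀ φ)) 1) := by
    obtain ⟨e⟩ := Groth.L16.Rees.exists_flat_bc_equiv f₀ f₂ g₂ sq₂ (Coh.structureModule X₀) 1
    haveI : Subsingleton (As ⊗[A] Coh.HH X₀ (Coh.structureModule X₀) 1) := subsingleton_of_forall_eq 0 fun t => by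
      induction t using TensorProduct.induction_on with
      | zero => rfl
      | add a b ha hb => rw [ha, hb, add_zero]
      | tmul a x =>
        obtain ⟨v, hv⟩ := (IsLocalization.Away.algebraMap_isUnit (S := As) s).exists_right_inv
        have ha : a = s • (v * a) := by rw [Algebra.smul_def, ← mul_assoc, hv, one_mul]
        rw [ha, TensorProduct.smul_tmul, hs, TensorProduct.tmul_zero]
    haveI : Subsingleton (Coh.HH (pullback f₀ φ) ((Scheme.Modules.pullback g₂).obj (Coh.structureModule X₀)) 1) :=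
      e.symm.toEquiv.subsingleton
    exact subsingleton_of_iso (Groth.L29.LocFree.pullbackUnitIso g₂) 1
  have hD : hV.fromSpec ''ᵁ PrimeSpectrum.basicOpen s = Y.basicOpen s := hV.fromSpec_image_basicOpen s
  have hφr : Set.range φ = (PrimeSpectrum.basicOpen s : Set (PrimeSpectrum A)) :=
    PrimeSpectrum.localization_away_comap_range As s
  have hrange : Set.range (φ ≫ hV.fromSpec) = (Y.basicOpen s : Set Y) := by
    rw [← hD]
    ext w
    constructor
    · rintro ⟨z, rfl⟩; exact ⟨φ z, hφr.le ⟨z, rfl⟩, rfl⟩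
    · rintro ⟨q, hq, rfl⟩
      obtain ⟨z, rfl⟩ := hφr.ge hq
      exact ⟨z, rfl⟩
  refine ⟨Y.basicOpen s, hV.basicOpen s, hD.le ⟨p, hsp, hV.fromSpec_primeIdealOf ⟨y, hyV⟩⟩,
    fun y' h => hdV y' (Y.basicOpen_le s h), fun S X' f' g b sq hb => ?_⟩
  let b₀ := IsOpenImmersion.lift (φ ≫ hV.fromSpec) b (hb.trans hrange.ge)
  have hb₀ : b₀ ≫ φ ≫ hV.fromSpec = b := IsOpenImmersion.lift_fac _ _ _
  have sq₃ : IsPullback (g₂ ≫ (f ⁻¹ᵁ V).ι) f₂ f (φ ≫ hV.fromSpec) := sq₂.paste_horiz (isPullback_fV f hV)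
  let j := sq₃.lift g (f' ≫ b₀) (by rw [Category.assoc, hb₀]; exact sq.w)
  have sq₄ : IsPullback j f' f₂ b₀ := IsPullback.of_right
    (show IsPullback (j ≫ g₂ ≫ (f ⁻¹ᵁ V).ι) f' f (b₀ ≫ φ ≫ hV.fromSpec) by
      rw [sq₃.lift_fst, hb₀]; exact sq)
    (sq₃.lift_snd _ _ _) sq₃
  exact (baseChange_spec f₂ (fun z => fiber_dim_le_of_isPullback sq₂ z (hd₀ _)) hv₂ f' j b₀ sq₄).1

end Groth.L12.GenusZero

namespace Groth.L12.GenusZero

open Groth.L17.BC (fV)

theorem toGlobal_fV {X Y : Scheme.{u}} (f : X ⟶ Y) {V : Y.Opens} (hV : IsAffineOpen V) (a : Γ(Y, V)) :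
    Coh.toGlobal (A := Γ(Y, V)) (fV f hV) a =
      X.presheaf.map (eqToHom (show ((f ⁻¹ᵁ V).ι ''ᵁ ⊤) = f ⁻¹ᵁ V by
        rw [Scheme.Hom.image_top_eq_opensRange, Scheme.Opens.opensRange_ι])).op (f.app V a) := by
  show ((Scheme.ΓSpecIso Γ(Y, V)).inv ≫ ((f ∣_ V) ≫ hV.isoSpec.hom).appTop) a = (f.app V ≫ _) a
  congr 2
  rw [Scheme.Hom.comp_appTop, IsAffineOpen.isoSpec_hom_appTop, morphismRestrict_appTop]
  simp [Scheme.Opens.topIso]
  rw [Scheme.Hom.naturality_assoc, ← Functor.map_comp]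
  congr 2

theorem surjective_toGlobal_fV {X Y : Scheme.{u}} (f : X ⟶ Y) {V : Y.Opens} (hV : IsAffineOpen V)
    (h : Function.Surjective (f.app V)) : Function.Surjective (Coh.toGlobal (A := Γ(Y, V)) (fV f hV)) := fun z => by
  have he : ((f ⁻¹ᵁ V).ι ''ᵁ ⊤) = f ⁻¹ᵁ V := by
    rw [Scheme.Hom.image_top_eq_opensRange, Scheme.Opens.opensRange_ι]
  obtain ⟨z', hz'⟩ := (ConcreteCategory.bijective_of_isIso (X.presheaf.map (eqToHom he).op)).2
    (show Γ(X, (f ⁻¹ᵁ V).ι ''ᵁ ⊤) from z)
  obtain ⟨a, rfl⟩ := h z'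
  exact ⟨a, (toGlobal_fV f hV a).trans hz'⟩

theorem surjective_app_of_toGlobal {X Y : Scheme.{u}} (f : X ⟶ Y) {V : Y.Opens} (hV : IsAffineOpen V)
    (h : Function.Surjective (Coh.toGlobal (A := Γ(Y, V)) (fV f hV))) : Function.Surjective (f.app V) := fun z => by
  have he : ((f ⁻¹ᵁ V).ι ''ᵁ ⊤) = f ⁻¹ᵁ V := by
    rw [Scheme.Hom.image_top_eq_opensRange, Scheme.Opens.opensRange_ι]
  obtain ⟨a, ha⟩ := h (X.presheaf.map (eqToHom he).op z)
  exact ⟨a, (ConcreteCategory.bijective_of_isIso (X.presheaf.map (eqToHom he).op)).1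
    ((toGlobal_fV f hV a).symm.trans ha)⟩

end Groth.L12.GenusZero
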