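import Groth.Agent.L12.GenusZero.Basic
import Groth.Agent.L12.CurveFam.NormGen
import Groth.Agent.L21.RR.VeryAmpleIff
import Groth.Agent.L18.RelAmpleCrit

/-!
# Multiplication of sections of a generated invertible module

If `H¹(N) = 0` and `L` is generated by its sections, products of sections of `N ⊗ L` and `L` generate the sections
of `(N ⊗ L) ⊗ L`.
-/

set_option autoImplicit false
set_option linter.style.haveILetI false
set_option linter.unusedSectionVars false
set_option backward.isDefEq.respectTransparency false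
set_option backward.isDefEq.respectTransparency.types false

universe u

open CategoryTheory CategoryTheory.Limits AlgebraicGeometry TopologicalSpace Opposite

noncomputable section

namespace Groth.L12.GenusZero

attribute [local instance] CategoryTheory.Abelian.hasFiniteBiproducts

open Groth.L16.CohLinear (hmap hmap_comp hmap_id exact_hmap_hmap exact_hmap_delta)
open Groth.L21.RR (st st_comp st_germ mulS mulS_app mulS_comm surjective_st_mulS st_mulS exists_coeff_secOf
  exists_frames bijective_germ_frame e0 e0_hmap)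
open Groth.L18.Frame (IsFrame rs rs_rs rs_self)
open Groth.L18.GenLoc (tens secOf isInvertible_tensor isFrame_tens)

variable {X : Scheme.{u}}

theorem st_sum {κ : Type*} (s : Finset κ) {M N : X.Modules} (g : κ → (M ⟶ N)) (x : X) (v : M.presheaf.stalk x) :
    st (∑ a ∈ s, g a) x v = ∑ a ∈ s, st (g a) x v := by
  let ev : (M ⟶ N) →+ N.presheaf.stalk x := AddMonoidHom.mk' (fun q => st q x v) fun q q' => by
    simp only [st, Functor.map_add]; rfl
  exact map_sum ev g s

theorem app_sum {κ : Type*} (s : Finset κ) {M N : X.Modules} (g : κ → (M ⟶ N)) (U : X.Opens) (v : Γ(M, U)) :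
    (∑ a ∈ s, g a).app U v = ∑ a ∈ s, (g a).app U v := by
  let ev : (M ⟶ N) →+ Γ(N, U) := AddMonoidHom.mk' (fun q => q.app U v) fun q q' => rfl
  exact map_sum ev g s

theorem st_add {M N : X.Modules} (g g' : M ⟶ N) (x : X) (v : M.presheaf.stalk x) :
    st (g + g') x v = st g x v + st g' x v := by
  simp only [st, Functor.map_add]; rfl

theorem st_sub {M N : X.Modules} (g g' : M ⟶ N) (x : X) (v : M.presheaf.stalk x) :
    st (g - g') x v = st g x v - st g' x v := by
  rw [eq_sub_iff_add_eq, ← st_add, sub_add_cancel]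

variable {L : X.Modules}

theorem injective_st_mulS_of_surjective {N : X.Modules} (hN : PicF.IsInvertible N) (hL : PicF.IsInvertible L)
    {φ : Coh.structureModule X ⟶ L} {x : X} (h : Function.Surjective (st φ x)) :
    Function.Injective (st (mulS N φ) x) := by
  obtain ⟨W, e, ε, hx, he, hε⟩ := exists_frames hN hL x
  obtain ⟨b, hb, hb'⟩ := exists_coeff_secOf hε φ
  have hu := (Groth.L21.RR.surjective_st_iff (bijective_germ_frame hε hx) φ (hb' x hx)).1 h
  refine (injective_iff_map_eq_zero _).2 fun v hv => ?_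
  obtain ⟨a, rfl⟩ := (bijective_germ_frame he hx).2 v
  change st (mulS N φ) x (a • N.presheaf.germ W x hx e) = 0 at hv
  rw [st_mulS N φ hb hx] at hv
  have h0 : a * X.presheaf.germ W x hx b = 0 :=
    (bijective_germ_frame (isFrame_tens he hε) hx).1 (hv.trans (zero_smul _ _).symm)
  show a • N.presheaf.germ W x hx e = 0
  rw [hu.mul_left_eq_zero.1 h0, zero_smul]

/-- Finitely many generating sections of a generated module on a compact scheme. -/
theorem exists_fin_generators [CompactSpace X] (hL : PicF.IsInvertible L)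
    (hgen : ∀ x : X, ∃ φ : Coh.structureModule X ⟶ L, Function.Surjective (st φ x)) :
    ∃ (r : ℕ) (φ : ULift.{u} (Fin r) → (Coh.structureModule X ⟶ L)), ∀ x, ∃ a, Function.Surjective (st (φ a) x) := by
  choose φ hφ using hgen
  have hopen : ∀ x, IsOpen {y : X | Function.Surjective (st (φ x) y)} := fun x => by
    rw [isOpen_iff_forall_mem_open]
    intro y hy
    obtain ⟨W, ε, hyW, hε⟩ := Groth.L18.Frame.exists_frame hL y
    obtain ⟨b, hb, hb'⟩ := exists_coeff_secOf hε (φ x)
    refine ⟨X.basicOpen b, fun z hz => ?_, (X.basicOpen b).2, ?_⟩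
    · have hzW := X.basicOpen_le b hz
      exact (Groth.L21.RR.surjective_st_iff (bijective_germ_frame hε hzW) (φ x) (hb' z hzW)).2
        ((X.mem_basicOpen b z hzW).1 hz)
    · exact (X.mem_basicOpen b y hyW).2
        ((Groth.L21.RR.surjective_st_iff (bijective_germ_frame hε hyW) (φ x) (hb' y hyW)).1 hy)
  obtain ⟨t, ht⟩ := isCompact_univ.elim_finite_subcover _ hopen fun y _ => Set.mem_iUnion.2 ⟨y, hφ y⟩
  refine ⟨t.card, fun a => φ (t.equivFin.symm a.down), fun x => ?_⟩
  obtain ⟨z, hz, hxz⟩ := Set.mem_iUnion₂.1 (ht (Set.mem_univ x))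
  exact ⟨⟨t.equivFin ⟨z, hz⟩⟩, by simpa using! hxz⟩

variable (h2 : RightExact X) (hL : PicF.IsInvertible L)
  {r : ℕ} (φ : ULift.{u} (Fin r) → (Coh.structureModule X ⟶ L)) (hφ : ∀ x, ∃ a, Function.Surjective (st (φ a) x))

include hφ hL in
theorem epi_desc_mulS {N : X.Modules} (hN : PicF.IsInvertible N) : Epi (biproduct.desc fun a => mulS N (φ a)) := by
  refine (Groth.L21.Mod.epi_iff_stalk_surjective _).2 fun x v => ?_
  obtain ⟨a, ha⟩ := hφ x
  obtain ⟨u, hu⟩ := surjective_st_mulS hN hL ha v
  refine ⟨st (biproduct.ι (fun _ : ULift.{u} (Fin r) => N) a) x u, ?_⟩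
  change st (biproduct.desc fun a => mulS N (φ a)) x _ = v
  rw [← st_comp, biproduct.ι_desc]
  exact hu

include h2 hφ hL in
theorem subsingleton_h1_tensor_gen {N : X.Modules} (hN : PicF.IsInvertible N)
    (h : Subsingleton (Coh.HH X N 1)) : Subsingleton (Coh.HH X (CohB1.tensorMod N L) 1) :=
  haveI := epi_desc_mulS hL φ hφ hN
  subsingleton_of_desc _ h2 (fun _ => h) (fun _ => Groth.L21.Extend.isQCoh_of_isInvertible hN)
    (Groth.L21.Extend.isQCoh_of_isInvertible (isInvertible_tensor hN hL)) (fun a => mulS N (φ a))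

include h2 hφ hL in
/-- The multiplication map is surjective on sections. -/
theorem exists_sum_mulS {N : X.Modules} (hN : PicF.IsInvertible N) (h : Subsingleton (Coh.HH X N 1))
    (w : Γ(CohB1.tensorMod (CohB1.tensorMod N L) L, ⊤)) :
    ∃ t : ULift.{u} (Fin r) → Γ(CohB1.tensorMod N L, ⊤),
      w = ∑ a, (mulS (CohB1.tensorMod N L) (φ a)).app ⊤ (t a) := by
  classical
  let M := CohB1.tensorMod N L
  have hM : PicF.IsInvertible M := isInvertible_tensor hN hL
  let P := ⨁ fun _ : ULift.{u} (Fin r) => M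
  let δ : P ⟶ CohB1.tensorMod M L := biproduct.desc fun a => mulS M (φ a)
  haveI : Epi δ := epi_desc_mulS hL φ hφ hM
  let ψ : (⨁ fun _ : ULift.{u} (Fin r) × ULift.{u} (Fin r) => N) ⟶ P :=
    biproduct.desc fun ab => mulS N (φ ab.1) ≫ biproduct.ι (fun _ : ULift.{u} (Fin r) => M) ab.2 -
      mulS N (φ ab.2) ≫ biproduct.ι (fun _ : ULift.{u} (Fin r) => M) ab.1
  have hψ : ψ ≫ δ = 0 := biproduct.hom_ext' _ _ fun ab => by
    rw [← Category.assoc, biproduct.ι_desc, Preadditive.sub_comp, Category.assoc, Category.assoc,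
      biproduct.ι_desc, biproduct.ι_desc, comp_zero, mulS_comm N hL (φ ab.1) (φ ab.2), sub_self]
  haveI : Epi (kernel.lift δ ψ hψ) := by
    refine (Groth.L21.Mod.epi_iff_stalk_surjective _).2 fun x v => ?_
    change ∃ z, st (kernel.lift δ ψ hψ) x z = v
    have hinj : Function.Injective (st (kernel.ι δ) x) :=
      (Groth.L21.Mod.mono_iff_stalk_injective (kernel.ι δ)).1 inferInstance x
    suffices hz : ∃ z, st ψ x z = st (kernel.ι δ) x v by
      obtain ⟨z, hz⟩ := hz
      exact ⟨z, hinj (by rw [← st_comp, kernel.lift_ι]; exact hz)⟩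
    have hv0 : st δ x (st (kernel.ι δ) x v) = 0 := by
      rw [← st_comp, kernel.condition, st, Functor.map_zero]; rfl
    generalize st (kernel.ι δ) x v = u at hv0
    obtain ⟨k, hk⟩ := hφ x
    let π := fun a => biproduct.π (fun _ : ULift.{u} (Fin r) => M) a
    let ι := fun a => biproduct.ι (fun _ : ULift.{u} (Fin r) => M) a
    have htot : ∀ y : P.presheaf.stalk x, y = ∑ a, st (ι a) x (st (π a) x y) := fun y => by
      have h0 : ∑ a, π a ≫ ι a = 𝟙 P := biproduct.hom_ext' _ _ fun j => by
        rw [Preadditive.comp_sum, Finset.sum_eq_single j (fun i _ hi => by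
          rw [biproduct.ι_π_ne_assoc _ hi.symm, zero_comp])
          (fun h => absurd (Finset.mem_univ j) h), biproduct.ι_π_self_assoc, Category.comp_id]
      have h' := congrArg (fun q : P ⟶ P => st q x y) h0
      simp only [st_sum] at h'
      have hid : st (𝟙 P) x y = y := by simp only [st, CategoryTheory.Functor.map_id]; rfl
      rw [hid] at h'
      exact h'.symm.trans (Finset.sum_congr rfl fun a _ => st_comp _ _ x y)
    choose z hz using fun a => surjective_st_mulS hN hL hk (st (π a) x u)
    let Z := ∑ a, st (biproduct.ι (fun _ : ULift.{u} (Fin r) × ULift.{u} (Fin r) => N) (k, a)) x (z a)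
    have hψZ : st ψ x Z = u - st (ι k) x (∑ a, st (mulS N (φ a)) x (z a)) := by
      conv_rhs => rw [htot u]
      rw [map_sum (st ψ x), map_sum (st (ι k) x), ← Finset.sum_sub_distrib]
      refine Finset.sum_congr rfl fun a _ => ?_
      rw [← st_comp, biproduct.ι_desc, st_sub, st_comp, st_comp, hz]
    refine ⟨Z, ?_⟩
    have h1 : st δ x (st ψ x Z) = 0 := by
      rw [← st_comp, hψ, st, Functor.map_zero]; rfl
    rw [hψZ, map_sub, hv0, zero_sub, neg_eq_zero, ← st_comp, biproduct.ι_desc] at h1
    have h3 := injective_st_mulS_of_surjective hM hL hk (h1.trans (map_zero _).symm)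
    rw [hψZ, h3, map_zero, sub_zero]
  have hS : (ShortComplex.mk (kernel.ι δ) δ (kernel.condition δ)).ShortExact :=
    { exact := ShortComplex.exact_of_f_is_kernel _ (kernelIsKernel δ) }
  haveI : Coh.IsQCoh N := Groth.L21.Extend.isQCoh_of_isInvertible hN
  haveI : Subsingleton (Coh.HH X (kernel δ) 1) := by
    haveI := subsingleton_biproduct (fun _ : ULift.{u} (Fin r) × ULift.{u} (Fin r) => N) fun _ => h
    refine subsingleton_of_epi h2 (kernel.lift δ ψ hψ) (isQCoh_biproduct _ fun _ => inferInstance) ?_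
    exact (Groth.L00.AlgQCoh.isQCoh_kernel_cokernel δ (isQCoh_biproduct _ fun _ =>
      Groth.L21.Extend.isQCoh_of_isInvertible hM) (Groth.L21.Extend.isQCoh_of_isInvertible
        (isInvertible_tensor hM hL))).1
  obtain ⟨c, hc⟩ := (exact_hmap_delta hS 0 ((e0 _).symm w)).1 (Subsingleton.elim _ _)
  refine ⟨fun a => e0 M (hmap (biproduct.π (fun _ : ULift.{u} (Fin r) => M) a) 0 c), ?_⟩
  have hw := congrArg (e0 _) hc
  rw [AddEquiv.apply_symm_apply] at hw
  rw [← hw, e0_hmap]
  conv_lhs => rw [hh_biproduct _ 0 c, map_sum, map_sum]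
  refine Finset.sum_congr rfl fun a _ => ?_
  rw [e0_hmap, ← ConcreteCategory.comp_apply, ← Scheme.Modules.Hom.comp_app, biproduct.ι_desc]

include h2 hφ hL in
/-- Products generate the sections of `M ⊗ L` when `M` is a twist of a module without first cohomology. -/
theorem span_tmul {M N : X.Modules} (hN : PicF.IsInvertible N) (h : Subsingleton (Coh.HH X N 1))
    (i : CohB1.tensorMod N L ≅ M) :
    AddSubgroup.closure {t | ∃ (m : M.val.obj (op ⊤)) (s : L.val.obj (op ⊤)),
      t = SecTwist.tmul M L ⊤ m s} = ⊤ := by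
  refine eq_top_iff.2 fun w _ => ?_
  let T := Groth.L00.Tensor.tensorIso i (Iso.refl L)
  obtain ⟨t, ht⟩ := exists_sum_mulS h2 hL φ hφ hN h (T.inv.app ⊤ w)
  have hw : w = T.hom.app ⊤ (T.inv.app ⊤ w) := by
    rw [← ConcreteCategory.comp_apply, ← Scheme.Modules.Hom.comp_app, T.inv_hom_id]; rfl
  rw [hw, ht, map_sum]
  refine AddSubgroup.sum_mem _ fun a _ => AddSubgroup.subset_closure ⟨i.hom.app ⊤ (t a), secOf (φ a), ?_⟩
  rw [mulS_app, rs_self]
  exact Groth.L18.Ample.tensorMap_tens _ _ ⊤ _ _

include hL hφ h2 in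
theorem subsingleton_h1_pow {n : ℕ} (h : Subsingleton (Coh.HH X (CohB1.tensorPow L n) 1)) :
    ∀ m, n ≤ m → Subsingleton (Coh.HH X (CohB1.tensorPow L m) 1) := by
  intro m hm
  induction hm with
  | refl => exact h
  | step _ ih => exact subsingleton_h1_tensor_gen h2 hL φ hφ (Groth.L18.Ample.isInvertible_tensorPow hL _) ih

end Groth.L12.GenusZero
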