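import Groth.Agent.L21.RR.Mul
import Groth.Agent.L29.DCoh.QCohLocal
import Groth.Agent.L00.AlgQCoh
import Groth.Agent.L16.Rees.SmulMod

/-!
# Right exactness of the first cohomology and sections of quotients
-/

set_option autoImplicit false
set_option linter.style.haveILetI false
set_option linter.unusedSectionVars false
set_option backward.isDefEq.respectTransparency false
set_option backward.isDefEq.respectTransparency.types false

universe u

open CategoryTheory CategoryTheory.Limits AlgebraicGeometry TopologicalSpace Opposite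

noncomputable section

namespace Groth.L12.GenusZero

attribute [local instance] CategoryTheory.Abelian.hasFiniteBiproducts

open Groth.L16.CohLinear (hmap hmap_comp hmap_id exact_hmap_hmap exact_hmap_delta)
open Groth.L21.RR (st st_comp e0 e0_hmap oneSec one bijective_smul_one)

variable {X : Scheme.{u}}

/-- The first cohomology is right exact on quasi-coherent modules. -/
def RightExact (X : Scheme.{u}) : Prop := ∀ (M : X.Modules), Coh.IsQCoh M → Subsingleton (Coh.HH X M 2)

theorem isQCoh_image {M N : X.Modules} (g : M ⟶ N) (hM : Coh.IsQCoh M) (hN : Coh.IsQCoh N) :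
    Coh.IsQCoh (Abelian.image g) :=
  (Groth.L00.AlgQCoh.isQCoh_kernel_cokernel _ hN
    (Groth.L00.AlgQCoh.isQCoh_kernel_cokernel g hM hN).2).1

theorem surjective_hmap_one_of_epi (h2 : RightExact X) {M N : X.Modules} (g : M ⟶ N) [Epi g]
    (hM : Coh.IsQCoh M) (hN : Coh.IsQCoh N) : Function.Surjective (hmap g 1) := by
  have hS : (ShortComplex.mk (kernel.ι g) g (kernel.condition g)).ShortExact :=
    { exact := ShortComplex.exact_of_f_is_kernel _ (kernelIsKernel g) }
  haveI := h2 _ (Groth.L00.AlgQCoh.isQCoh_kernel_cokernel g hM hN).1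
  exact fun y => (exact_hmap_delta hS 1 y).1 (Subsingleton.elim _ _)

theorem subsingleton_of_epi (h2 : RightExact X) {M N : X.Modules} (g : M ⟶ N) [Epi g]
    (hM : Coh.IsQCoh M) (hN : Coh.IsQCoh N) [Subsingleton (Coh.HH X M 1)] : Subsingleton (Coh.HH X N 1) :=
  (surjective_hmap_one_of_epi h2 g hM hN).subsingleton

/-- Sections lift along an epimorphism whose kernel has no first cohomology. -/
theorem exists_lift {M N : X.Modules} {g : M ⟶ N} {K : X.Modules} {i : K ⟶ M} {w : i ≫ g = 0}
    (hS : (ShortComplex.mk i g w).ShortExact) [Subsingleton (Coh.HH X K 1)] (φ : Coh.structureModule X ⟶ N) :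
    ∃ ψ : Coh.structureModule X ⟶ M, ψ ≫ g = φ := by
  obtain ⟨t, ht⟩ := (exact_hmap_delta hS 0 ((e0 N).symm (φ.app ⊤ (oneSec X)))).1 (Subsingleton.elim _ _)
  obtain ⟨ψ, hψ⟩ := Groth.L21.RR.exists_hom_of_hh0 t
  refine ⟨ψ, Groth.L21.RR.hom_ext_one ?_⟩
  have h := congrArg (e0 N) ht
  rw [AddEquiv.apply_symm_apply, e0_hmap, ← hψ] at h
  exact h

theorem subsingleton_of_shortExact {S : ShortComplex X.Modules} (hS : S.ShortExact)
    [Subsingleton (Coh.HH X S.X₁ 1)] [Subsingleton (Coh.HH X S.X₃ 1)] : Subsingleton (Coh.HH X S.X₂ 1) :=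
  subsingleton_of_forall_eq 0 fun y => by
    obtain ⟨z, hz⟩ := (exact_hmap_hmap hS 1 y).1 (Subsingleton.elim _ _)
    rw [← hz, Subsingleton.elim z 0, map_zero]

section Biproduct

variable {ι : Type u} [Fintype ι] (M : ι → X.Modules)

theorem isQCoh_biproduct (hM : ∀ i, Coh.IsQCoh (M i)) : Coh.IsQCoh (⨁ M) :=
  Groth.L29.DC.isQCoh_of_iso' (biproduct.isoCoproduct M).symm (Groth.L00.AlgQCoh.isQCoh_sigma M hM)

theorem hmap_sum {κ : Type*} (s : Finset κ) {A B : X.Modules} (g : κ → (A ⟶ B)) (n : ℕ) (x : Coh.HH X A n) :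
    hmap (∑ k ∈ s, g k) n x = ∑ k ∈ s, hmap (g k) n x := by
  classical
  induction s using Finset.induction_on with
  | empty => rw [Finset.sum_empty, Finset.sum_empty, Groth.L21.RR.hmap_zero]
  | insert a s ha ih => rw [Finset.sum_insert ha, Finset.sum_insert ha, Groth.L21.RR.hmap_add, ih]

/-- Classes on a finite direct sum are sums of classes of the summands. -/
theorem hh_biproduct (n : ℕ) (x : Coh.HH X (⨁ M) n) :
    x = ∑ i, hmap (biproduct.ι M i) n (hmap (biproduct.π M i) n x) := by
  classical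
  have h0 : ∑ i, biproduct.π M i ≫ biproduct.ι M i = 𝟙 (⨁ M) := biproduct.hom_ext' _ _ fun j => by
    rw [Preadditive.comp_sum, Finset.sum_eq_single j (fun i _ hi => by rw [biproduct.ι_π_ne_assoc M hi.symm, zero_comp])
      (fun h => absurd (Finset.mem_univ j) h), biproduct.ι_π_self_assoc, Category.comp_id]
  have h := congrArg (fun g : ⨁ M ⟶ ⨁ M => hmap g n x) h0
  simp only [hmap_sum, hmap_id] at h
  exact h.symm.trans (Finset.sum_congr rfl fun i _ => hmap_comp _ _ _ _)

theorem subsingleton_biproduct (hM : ∀ i, Subsingleton (Coh.HH X (M i) 1)) :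
    Subsingleton (Coh.HH X (⨁ M) 1) :=
  subsingleton_of_forall_eq 0 fun x => by
    rw [hh_biproduct M 1 x]
    exact Finset.sum_eq_zero fun i _ => by rw [(hM i).elim (hmap (biproduct.π M i) 1 x) 0, map_zero]

/-- A quotient of a finite sum of modules without first cohomology has none. -/
theorem subsingleton_of_desc (h2 : RightExact X) (hM : ∀ i, Subsingleton (Coh.HH X (M i) 1))
    (hMq : ∀ i, Coh.IsQCoh (M i)) {N : X.Modules} (hN : Coh.IsQCoh N) (g : ∀ i, M i ⟶ N)
    [Epi (biproduct.desc g)] : Subsingleton (Coh.HH X N 1) :=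
  haveI := subsingleton_biproduct M hM
  subsingleton_of_epi h2 (biproduct.desc g) (isQCoh_biproduct M hMq) hN

end Biproduct

section Stalks

/-- The cokernel has non-trivial stalk where the map is not surjective. -/
theorem nontrivial_cokernel {M N : X.Modules} (f : M ⟶ N) {x : X} (h : ¬ Function.Surjective (st f x)) :
    Nontrivial ((cokernel f).presheaf.stalk x) := by
  rw [← not_subsingleton_iff_nontrivial]
  exact fun hs => h fun v => Groth.L21.RR.exists_of_st_cokernel f x v (hs.elim _ _)

theorem surjective_st_of_epi {M N : X.Modules} (f : M ⟶ N) [Epi f] (x : X) : Function.Surjective (st f x) :=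
  (Groth.L21.Mod.epi_iff_stalk_surjective f).1 inferInstance x

theorem nontrivial_of_surjective {M N : X.Modules} {x : X} (f : M ⟶ N) (hf : Function.Surjective (st f x))
    [Nontrivial (N.presheaf.stalk x)] : Nontrivial (M.presheaf.stalk x) :=
  hf.nontrivial

/-- A section of a cyclic stalk which generates a non-zero quotient generates the stalk. -/
theorem surjective_st_of_quotient {Q Q' : X.Modules} (φ : Coh.structureModule X ⟶ Q) (π : Q ⟶ Q') {x : X}
    (g : Q.presheaf.stalk x) (hg : ∀ q, ∃ a : X.presheaf.stalk x, a • g = q) (hπ : Function.Surjective (st π x))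
    [Nontrivial (Q'.presheaf.stalk x)] (h : Function.Surjective (st (φ ≫ π) x)) :
    Function.Surjective (st φ x) := by
  obtain ⟨a, ha⟩ := hg (st φ x (one X x))
  obtain ⟨r₀, hr⟩ := h (st π x g)
  obtain ⟨r, rfl⟩ := (bijective_smul_one x).2 r₀
  change st (φ ≫ π) x (r • one X x) = st π x g at hr
  rw [map_smul, st_comp, ← ha, map_smul, smul_smul] at hr
  have hu : IsUnit a := by
    by_contra hna
    have h1 : (1 - r * a) • st π x g = 0 := by rw [sub_smul, one_smul, hr, sub_self]
    have hu' : IsUnit (1 - r * a) := IsLocalRing.isUnit_one_sub_self_of_mem_nonunits _ fun hh =>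
      hna (isUnit_of_mul_isUnit_right hh)
    have h0 : st π x g = 0 := hu'.smul_eq_zero.1 h1
    obtain ⟨v, hv⟩ := exists_ne (0 : Q'.presheaf.stalk x)
    obtain ⟨q, rfl⟩ := hπ v
    obtain ⟨b, rfl⟩ := hg q
    exact hv (by rw [map_smul, h0, smul_zero])
  intro v
  obtain ⟨b, rfl⟩ := hg v
  refine ⟨(b * ↑hu.unit⁻¹) • one X x, ?_⟩
  rw [map_smul, ← ha, smul_smul, mul_assoc, IsUnit.val_inv_mul, mul_one]

theorem exists_generator {L Q : X.Modules} (hL : PicF.IsInvertible L) (p : L ⟶ Q) [Epi p] (x : X) :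
    ∃ g : Q.presheaf.stalk x, ∀ q, ∃ a : X.presheaf.stalk x, a • g = q := by
  obtain ⟨e, he⟩ := Groth.L21.RR.exists_frame_stalk hL x
  refine ⟨st p x e, fun q => ?_⟩
  obtain ⟨v, rfl⟩ := surjective_st_of_epi p x q
  obtain ⟨a, rfl⟩ := he.2 v
  exact ⟨a, (map_smul _ _ _).symm⟩

theorem eq_zero_iff_image {M N : X.Modules} (f : M ⟶ N) (hf : IsZero (Abelian.image f)) : f = 0 := by
  rw [← Abelian.image.fac f, hf.eq_of_src (Abelian.image.ι f) 0, comp_zero]

end Stalks

end Groth.L12.GenusZero
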