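import Groth.Agent.L12.GenusZero.Main
import Groth.Agent.L12.GenusZero.Mult
import Groth.Agent.L12.CurveFam.FibVA.FieldForm
import Groth.Agent.L18.AmpleOps

/-!
# Applications: nef and ample modules over a field and over a Noetherian ring
-/

set_option autoImplicit false
set_option linter.style.haveILetI false
set_option linter.unusedSectionVars false
set_option backward.isDefEq.respectTransparency false
set_option backward.isDefEq.respectTransparency.types false

universe u

open CategoryTheory CategoryTheory.Limits AlgebraicGeometry TopologicalSpace Opposite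

noncomputable section

namespace Groth.L12.GenusZero

/-- The Euler characteristic does not see an isomorphism of ground fields. -/
theorem euler_of_field_iso {k K : Type u} [Field k] [Field K] (q : k →+* K) (hq : Function.Bijective q)
    {C : Scheme.{u}} (s : C ⟶ Spec (CommRingCat.of k)) (t : C ⟶ Spec (CommRingCat.of K))
    (ht : t ≫ Spec.map (CommRingCat.ofHom q) = s) (M : C.Modules) :
    @Curv2.euler K _ C ⟨t⟩ M = @Curv2.euler k _ C ⟨s⟩ M := by
  have hg : Coh.toGlobal s = (Coh.toGlobal t).comp q := by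
    rw [← ht]
    refine RingHom.ext fun a => ?_
    show (t ≫ Spec.map (CommRingCat.ofHom q)).appTop ((Scheme.ΓSpecIso (CommRingCat.of k)).inv a) = _
    rw [Scheme.Hom.comp_appTop, ConcreteCategory.comp_apply, ← ConcreteCategory.comp_apply _ (Spec.map _).appTop,
      ← Scheme.ΓSpecIso_inv_naturality]
    rfl
  refine finsum_congr fun i => ?_
  congr 2
  letI : Module k (Coh.HH C M i) := Module.compHom _ (Coh.toGlobal s)
  letI : Module K (Coh.HH C M i) := Module.compHom _ (Coh.toGlobal t)
  show Module.finrank K (Coh.HH C M i) = Module.finrank k (Coh.HH C M i)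
  refine (congrArg Cardinal.toNat (rank_eq_of_equiv_equiv q (AddEquiv.refl (Coh.HH C M i)) hq fun r m => ?_)).symm
  show Coh.toGlobal s r • m = Coh.toGlobal t (q r) • m
  rw [hg]
  rfl

variable {X : Scheme.{u}}

section OverField

variable (k : Type u) [Field k] [X.Over (Spec (CommRingCat.of k))] [IsProper (X ↘ Spec (CommRingCat.of k))]

omit [IsProper (X ↘ Spec (CommRingCat.of k))] in
theorem fiber_dim_le (hd : topologicalKrullDim X ≤ 1) (y : Spec (CommRingCat.of k)) :
    topologicalKrullDim ↥((X ↘ Spec (CommRingCat.of k)).fiber y) ≤ 1 :=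
  ((X ↘ Spec (CommRingCat.of k)).fiberι y).isEmbedding.isInducing.topologicalKrullDim_le.trans hd

omit [IsProper (X ↘ Spec (CommRingCat.of k))] in
theorem nefOver_of_nef {L : X.Modules} (h : Nef k L) : NefOver k L := by
  intro K _ q hq C j _ t hC hdim ht
  letI : C.Over (Spec (CommRingCat.of k)) := ⟨j ≫ (X ↘ Spec (CommRingCat.of k))⟩
  have hb : Function.Bijective q := ⟨q.injective, hq⟩
  have h' := h C j hC hdim
  rw [show @Curv2.deg K _ C ⟨t⟩ ((Scheme.Modules.pullback j).obj L) 1 =
    @Curv2.euler K _ C ⟨t⟩ ((Scheme.Modules.pullback j).obj L) -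
      ((1 : ℕ) : ℤ) * @Curv2.euler K _ C ⟨t⟩ (Coh.structureModule C) from rfl,
    euler_of_field_iso q hb _ t ht, euler_of_field_iso q hb _ t ht]
  exact h'

end OverField

/-- Ample modules are nef over any base. -/
theorem nefOver_of_isAmple {A : Type u} [CommRing A] [X.Over (Spec (CommRingCat.of A))]
    [IsProper (X ↘ Spec (CommRingCat.of A))] {L : X.Modules} (hL : CohB1.IsAmple L) : NefOver A L := by
  intro K _ q _ C j _ t hC hdim ht
  letI : C.Over (Spec (CommRingCat.of K)) := ⟨t⟩
  haveI : IsProper (C ↘ Spec (CommRingCat.of K)) := by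
    haveI : IsProper (t ≫ Spec.map (CommRingCat.ofHom q)) := by rw [ht]; infer_instance
    exact IsProper.of_comp t (Spec.map (CommRingCat.ofHom q))
  haveI := hC
  exact deg_nonneg_of_isAmple K hdim (Groth.L18.Ample.isAmple_pullback_of_isAffineHom j hL)

/-- Degrees on the integral subschemes given by ideal sheaves suffice, over any base. -/
theorem nefOver_of_ideals {A : Type u} [CommRing A] (f : X ⟶ Spec (CommRingCat.of A)) [IsProper f]
    [X.Over (Spec (CommRingCat.of A))] (hf : (X ↘ Spec (CommRingCat.of A)) = f) {L : X.Modules}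
    (hL : PicF.IsInvertible L)
    (h : ∀ (K : Type u) [Field K] (i : A →+* K) (J : X.IdealSheafData) (t : J.subscheme ⟶ Spec (CommRingCat.of K)),
      IsIntegral J.subscheme → topologicalKrullDim J.subscheme = 1 →
      t ≫ Spec.map (CommRingCat.ofHom i) = J.subschemeι ≫ f →
      0 ≤ @Curv2.deg K _ J.subscheme ⟨t⟩ ((Scheme.Modules.pullback J.subschemeι).obj L) 1) : NefOver A L := by
  intro K _ q _ C j _ t hC hdim ht
  haveI := hC
  let J := j.ker
  let e : C ⟶ J.subscheme := IsClosedImmersion.lift J.subschemeι j (J.ker_subschemeι).le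
  haveI : IsIso e := IsClosedImmersion.isIso_lift J.subschemeι j J.ker_subschemeι
  have he : e ≫ J.subschemeι = j := IsClosedImmersion.lift_fac _ _ _
  haveI : Nonempty J.subscheme := ⟨e (genericPoint C)⟩
  haveI : IsIntegral J.subscheme := isIntegral_of_isOpenImmersion (inv e)
  haveI : X.IsSeparated := ⟨by rw [← terminal.comp_from f]; infer_instance⟩
  haveI : J.subscheme.IsSeparated := ⟨by rw [← terminal.comp_from J.subschemeι]; infer_instance⟩
  have h' := h K q J (inv e ≫ t) inferInstance
    (((Scheme.Hom.homeomorph e).isHomeomorph.topologicalKrullDim_eq _).symm.trans hdim)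
    (by rw [Category.assoc, ht, hf, IsIso.inv_comp_eq, ← Category.assoc, he])
  letI : C.Over (Spec (CommRingCat.of K)) := ⟨t⟩
  letI : J.subscheme.Over (Spec (CommRingCat.of K)) := ⟨inv e ≫ t⟩
  have h1 := deg_pullback_of_isIso K e (show e ≫ inv e ≫ t = t by simp)
    (Groth.L18.Ample.isInvertible_pullback J.subschemeι hL)
  have h2 : Curv2.deg K C ((Scheme.Modules.pullback e).obj ((Scheme.Modules.pullback J.subschemeι).obj L)) 1 =
      Curv2.deg K C ((Scheme.Modules.pullback j).obj L) 1 :=
    Groth.L21.RR.deg_congr K ((Scheme.Modules.pullbackComp e J.subschemeι).app L ≪≫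
      (Scheme.Modules.pullbackCongr he).app L) 1
  show 0 ≤ Curv2.deg K C ((Scheme.Modules.pullback j).obj L) 1
  rw [← h2, h1]
  exact h'

variable {A : Type u} [CommRing A] [IsNoetherianRing A] [X.Over (Spec (CommRingCat.of A))]
  [IsProper (X ↘ Spec (CommRingCat.of A))]
  (hfib : ∀ y, topologicalKrullDim ↥((X ↘ Spec (CommRingCat.of A)).fiber y) ≤ 1)
  (h1 : Subsingleton (Coh.HH X (Coh.structureModule X) 1))

include hfib h1 in
/-- Ample modules are normally generated. -/
theorem span_of_isAmple {L : X.Modules} (hA : CohB1.IsAmple L) {n : ℕ} (hn : 1 ≤ n) :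
    AddSubgroup.closure {t | ∃ (m : (CohB1.tensorPow L n).val.obj (op ⊤))
      (s : L.val.obj (op ⊤)), t = SecTwist.tmul (CohB1.tensorPow L n) L ⊤ m s} = ⊤ := by
  haveI := isNoetherian_of_proper_over (X := X) (A := A)
  have h2 := rightExact_over hfib
  obtain ⟨r, φ, hφ⟩ := exists_fin_generators hA.1 (exists_generating hfib h1 hA.1 (nefOver_of_isAmple hA))
  obtain ⟨m, rfl⟩ : ∃ m, n = m + 1 := ⟨n - 1, by omega⟩
  exact span_tmul h2 hA.1 φ hφ (Groth.L18.Ample.isInvertible_tensorPow hA.1 m)
    (subsingleton_h1_pow h2 hA.1 φ hφ (n := 0) h1 m (Nat.zero_le m)) (Iso.refl _)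

include hfib h1 in
/-- Ample modules are very ample. -/
theorem isRelVeryAmplePn_of_isAmple {L : X.Modules} (hA : CohB1.IsAmple L) :
    RelAmple.IsRelVeryAmplePn (X ↘ Spec (CommRingCat.of A)) L :=
  Groth.L12.CurveFam.isRelVeryAmplePn_of_normallyGenerated _ hA fun _ hn => span_of_isAmple hfib h1 hA hn

/-- Products span over the functions if they generate additively. -/
theorem span_eq_top_of_closure {M L : X.Modules}
    (h : AddSubgroup.closure {t | ∃ (m : M.val.obj (op ⊤)) (s : L.val.obj (op ⊤)),
      t = SecTwist.tmul M L ⊤ m s} = ⊤) :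
    Submodule.span (X.ringCatSheaf.obj.obj (Opposite.op ⊤))
      (Set.range (fun p : M.val.obj (Opposite.op ⊤) × L.val.obj (Opposite.op ⊤) =>
        SecTwist.tmul M L ⊤ p.1 p.2)) = ⊤ := by
  refine eq_top_iff.2 fun w _ => ?_
  have hw : w ∈ AddSubgroup.closure {t | ∃ (m : M.val.obj (op ⊤)) (s : L.val.obj (op ⊤)),
      t = SecTwist.tmul M L ⊤ m s} := by rw [h]; trivial
  induction hw using AddSubgroup.closure_induction with
  | mem y hy => obtain ⟨m, s, rfl⟩ := hy; exact Submodule.subset_span ⟨(m, s), rfl⟩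
  | zero => exact zero_mem _
  | add a b _ _ ha hb => exact add_mem (ha trivial) (hb trivial)
  | neg a _ ha => exact neg_mem (ha trivial)

/-- A very ample module on a proper scheme over a field in the form of `ℙⁿ_k`. -/
theorem exists_closedImmersion_projSpace {k : Type u} [Field k] [X.Over (Spec (CommRingCat.of k))]
    [IsProper (X ↘ Spec (CommRingCat.of k))] {L : X.Modules}
    (h : RelAmple.IsRelVeryAmplePn (X ↘ Spec (CommRingCat.of k)) L) :
    ∃ (n : ℕ) (i : X ⟶ CohB1.ProjSpace n k), IsClosedImmersion i ∧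
      i ≫ CohB1.ProjSpace.toSpec n k = X ↘ (Spec (CommRingCat.of k)) ∧
      Nonempty ((Scheme.Modules.pullback i).obj (Twist.twistProjSpace n k 1) ≅ L) := by
  obtain ⟨n, i, hi, hq, hτ⟩ := Groth.L12.CurveFam.exists_pup_of_isRelVeryAmplePn _ h
  haveI := hi
  haveI : IsSeparated (Groth.L18.PUP.pr n k) := inferInstance
  haveI : IsProper i := by
    haveI : IsProper (i ≫ Groth.L18.PUP.pr n k) := by rw [hq]; infer_instance
    exact IsProper.of_comp i (Groth.L18.PUP.pr n k)
  exact ⟨n, i, IsClosedImmersion.iff_isPreimmersion.2 ⟨inferInstance, i.isClosedMap.isClosed_range⟩, hq, hτ⟩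

end Groth.L12.GenusZero
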