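import Groth.Agent.L19.VanishFibre.Main

/-!
# Vanishing above the fibre dimension over an arbitrary affine base
-/

set_option autoImplicit false
set_option linter.style.haveILetI false
set_option backward.isDefEq.respectTransparency false
set_option backward.isDefEq.respectTransparency.types false

universe u

open CategoryTheory CategoryTheory.Limits AlgebraicGeometry TopologicalSpace Opposite

noncomputable section

namespace Groth.L12.GenusZero

open Groth.L19.VanishFibre Groth.L17.BC

/-- Proper with fibres of dimension `≤ d` over an affine base: no cohomology above `d`. -/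
theorem subsingleton_HH_above {X : Scheme.{u}} {R : CommRingCat.{u}} (f : X ⟶ Spec R) [IsProper f]
    {d : ℕ} (hd : ∀ y, topologicalKrullDim ↥(f.fiber y) ≤ d) (G : X.Modules) [Coh.IsQCoh G] {p : ℕ} (hp : d < p) :
    Subsingleton (Coh.HH X G p) := by
  haveI : CompactSpace X := QuasiCompact.compactSpace_of_compactSpace f
  haveI : X.IsSeparated := ⟨by rw [← terminal.comp_from f]; infer_instance⟩
  haveI := Groth.L17.PushQCoh.hasInjectiveResolutions X
  obtain ⟨e⟩ := Groth.L17.ProperCoh.nonempty_Γ_Rpush_equiv f G p
  have hz : IsZero ((Coh.Rpush f p).obj G) := by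
    rw [Groth.L21.Mod.isZero_iff_support_eq_empty, Set.eq_empty_iff_forall_notMem]
    intro y hy
    obtain ⟨V, hyV, hV, hvan⟩ := exists_nhd_vanishing f y (hd y)
    haveI : Coh.IsQCoh (FV f (V := V) G) := Scheme.Modules.isQuasicoherent_restrictFunctor _ G
    exact hy (subsingleton_stalk_Rpush_of_affine f G hV hyV p (hvan _ (𝟙 _) (FV f (V := V) G) p hp))
  haveI := ModuleCat.subsingleton_of_isZero ((moduleSpecΓFunctor (R := R)).map_isZero hz)
  exact e.toEquiv.subsingleton

/-- The same for an affine target. -/
theorem subsingleton_HH_above_isAffine {X Y : Scheme.{u}} (f : X ⟶ Y) [IsProper f] [IsAffine Y]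
    {d : ℕ} (hd : ∀ y, topologicalKrullDim ↥(f.fiber y) ≤ d) (G : X.Modules) [Coh.IsQCoh G] {p : ℕ} (hp : d < p) :
    Subsingleton (Coh.HH X G p) :=
  subsingleton_HH_above (f ≫ Y.isoSpec.hom) (fun z => by
    refine le_trans (le_of_eq ?_) (hd (Y.isoSpec.inv z))
    exact (Groth.L22.SchemeDim.topologicalKrullDim_eq_of_isEmbedding ((f ≫ Y.isoSpec.hom).fiberι z).isEmbedding
      (by
        rw [Scheme.Hom.range_fiberι]
        ext x
        constructor
        · intro hx
          show f x = Y.isoSpec.inv z
          rw [← show (f ≫ Y.isoSpec.hom) x = z from hx, ← Scheme.Hom.comp_apply, Category.assoc, Iso.hom_inv_id,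
            Category.comp_id]
        · intro hx
          show (f ≫ Y.isoSpec.hom) x = z
          rw [Scheme.Hom.comp_apply, show f x = Y.isoSpec.inv z from hx, ← Scheme.Hom.comp_apply, Iso.inv_hom_id]
          rfl)).symm.trans (Groth.L22.SchemeDim.topologicalKrullDim_eq_of_isEmbedding (f.fiberι _).isEmbedding
        (f.range_fiberι _))) G hp

end Groth.L12.GenusZero
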