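import Groth.Agent.L09.CohColim.Opens
import Groth.Agent.L10.SiteCoh
import Groth.Agent.L15.KFlatSite.ToSheafColim
import Groth.Agent.L16.CohLinear
import Groth.Agent.L17.ToAbRpush
import Mathlib.CategoryTheory.Limits.Constructions.Filtered

/-!
# Cohomology classes on infinite direct sums come from finite subsums
-/

set_option autoImplicit false
set_option linter.style.haveILetI false
set_option backward.isDefEq.respectTransparency false
set_option backward.isDefEq.respectTransparency.types false

universe u

open CategoryTheory CategoryTheory.Limits AlgebraicGeometry TopologicalSpace Opposite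
open CoproductsFromFiniteFiltered

noncomputable section

namespace Groth.L12.GenusZero

open Groth.L16.CohLinear (hmap tm)
open Groth.L10.SiteCoh (hEquiv hEquiv_map)

variable {X : Scheme.{u}}

/-- A class on the colimit of a filtered system comes from a stage. -/
theorem exists_hmap_of_isColimit [CompactSpace X] [QuasiSeparatedSpace X] {J : Type u} [SmallCategory J] [IsFiltered J]
    {D : J ⥤ X.Modules} {c : Cocone D} (hc : IsColimit c) (n : ℕ) (x : Coh.HH X c.pt n) :
    ∃ (j : J) (y : Coh.HH X (D.obj j) n), hmap (c.ι.app j) n y = x := by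
  haveI : PreservesColimitsOfSize.{u, u} (Groth.L17.toAbShF X) :=
    Groth.L15.KFlatSite.preservesColimits_toSheaf X.ringCatSheaf
  haveI := Groth.L09.CohColim.preservesColimitsOfShape_H (X := X) (U := (⊤ : X.Opens))
    (by rw [Opens.coe_top]; exact isCompact_univ) (by rw [Opens.coe_top]; exact isQuasiSeparated_univ) J n
  let H := (Sheaf.cohomologyPresheafFunctor (Opens.grothendieckTopology X) n).flip.obj (op (⊤ : X.Opens))
  let hcol := isColimitOfPreserves H (isColimitOfPreserves (Groth.L17.toAbShF X) hc)
  let hT : IsTerminal (⊤ : X.Opens) := isTerminalTop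
  obtain ⟨j, z, hz⟩ := Concrete.isColimit_exists_rep _ hcol (hEquiv hT (Coh.toAb c.pt) n x)
  refine ⟨j, (hEquiv hT (Coh.toAb (D.obj j)) n).symm z, (hEquiv hT (Coh.toAb c.pt) n).injective ?_⟩
  refine (hEquiv_map hT (tm (c.ι.app j)) n ((hEquiv hT (Coh.toAb (D.obj j)) n).symm z)).trans ?_
  rw [AddEquiv.apply_symm_apply]
  exact hz

/-- A class on an infinite direct sum comes from a finite subsum. -/
theorem exists_finset_hmap [CompactSpace X] [QuasiSeparatedSpace X] {ι : Type u} (M : ι → X.Modules) (n : ℕ)
    (x : Coh.HH X (∐ M) n) :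
    ∃ (S : Finset (Discrete ι)) (y : Coh.HH X (∐ fun s : S => M s.1.as) n),
      hmap (Sigma.desc fun s : S => Sigma.ι M s.1.as) n y = x :=
  exists_hmap_of_isColimit (isColimitFiniteSubproductsCocone M) n x

end Groth.L12.GenusZero
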