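import Groth.Agent.L12.GenusZero.Main
import Groth.Agent.L12.GenusZero.AnyBase
import Groth.Agent.L12.GenusZero.Coprod
import Groth.Agent.L19.VanishFibre.TopFinite
import Groth.Agent.L16.EtaleFibre.Epi
import Groth.Agent.L29.LocFree

/-!
# Vanishing of `H¹` over an arbitrary affine base
-/

set_option autoImplicit false
set_option linter.style.haveILetI false
set_option linter.unusedSectionVars false
set_option backward.isDefEq.respectTransparency false
set_option backward.isDefEq.respectTransparency.types false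

universe u

open CategoryTheory CategoryTheory.Limits AlgebraicGeometry TopologicalSpace Opposite

noncomputable section

namespace Groth.L12.GenusZero

attribute [local instance] CategoryTheory.Abelian.hasFiniteBiproducts

open Formal (smulMod smulModΓ)
open Groth.L16.CohLinear (hmap hmap_comp hmap_id exact_hmap_hmap exact_hmap_delta)

/-- Coherence of the structure sheaf in the finite type sense, on every scheme. -/
theorem isCoh_structure_any (X : Scheme.{u}) : Coh.IsCoh (Coh.structureModule X) := by
  haveI : Coh.IsQCoh (Coh.structureModule X) := Groth.L16.EtaleFibre.isQCoh_structure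
  refine Groth.L16.CohClosedPush.isCoh_of_finite_sections _ fun x => ?_
  obtain ⟨_, ⟨V, hV, rfl⟩, hxV, -⟩ :=
    X.isBasis_affineOpens.exists_subset_of_mem_open (Set.mem_univ x) isOpen_univ
  exact ⟨V, hxV, hV, inferInstanceAs (Module.Finite Γ(X, V) Γ(X, V))⟩

theorem subsingleton_of_iso {X : Scheme.{u}} {M N : X.Modules} (e : M ≅ N) (n : ℕ)
    [Subsingleton (Coh.HH X M n)] : Subsingleton (Coh.HH X N n) :=
  Function.Surjective.subsingleton (f := hmap e.hom n) fun y => ⟨hmap e.inv n y, by
    rw [← hmap_comp, e.inv_hom_id, hmap_id]⟩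

/-- Proper over a field of dimension at most one: no second cohomology. -/
theorem rightExact_field {Z : Scheme.{u}} {K : CommRingCat.{u}} (hK : IsField K) (g : Z ⟶ Spec K) [IsProper g]
    (hd : topologicalKrullDim Z ≤ 1) : RightExact Z := fun M hM =>
  haveI := hM
  subsingleton_HH_above g (d := 1) (fun y =>
    ((g.fiberι y).isEmbedding.isInducing.topologicalKrullDim_le).trans hd) M one_lt_two

/-- Quasi-coherent quotients of free modules have no first cohomology. -/
theorem subsingleton_h1_globallyGenerated {X : Scheme.{u}} [CompactSpace X] [QuasiSeparatedSpace X] (h2 : RightExact X)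
    (h1 : Subsingleton (Coh.HH X (Coh.structureModule X) 1)) {F : X.Modules} (hF : Coh.IsQCoh F) {ι : Type u}
    (e : (∐ fun _ : ι => Coh.structureModule X) ⟶ F) [Epi e] : Subsingleton (Coh.HH X F 1) := by
  classical
  haveI := h1
  haveI : Subsingleton (Coh.HH X (∐ fun _ : ι => Coh.structureModule X) 1) := by
    refine subsingleton_of_forall_eq 0 fun z => ?_
    obtain ⟨T, w, rfl⟩ := exists_finset_hmap _ 1 z
    haveI : Subsingleton (Coh.HH X (∐ fun _ : T => Coh.structureModule X) 1) :=
      haveI := subsingleton_biproduct (fun _ : T => Coh.structureModule X) fun _ => inferInstance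
      subsingleton_of_iso (biproduct.isoCoproduct fun _ : T => Coh.structureModule X) 1
    rw [Subsingleton.elim w 0, map_zero]
  exact subsingleton_of_epi h2 e
    (Groth.L00.AlgQCoh.isQCoh_sigma _ fun _ => (isCoh_structure_any X).1) hF

variable {A : Type u} [CommRing A] {X : Scheme.{u}} (f : X ⟶ Spec (CommRingCat.of A)) [IsProper f]
  (hd : ∀ y, topologicalKrullDim ↥(f.fiber y) ≤ 1)

include hd in
theorem rightExact_affine : RightExact X := fun M hM =>
  haveI := hM
  subsingleton_HH_above f (d := 1) hd M one_lt_two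

variable {X₀ S₀ : Scheme.{u}} (f₀ : X₀ ⟶ S₀) [IsProper f₀] (ψ : Spec (CommRingCat.of A) ⟶ S₀) [IsPreimmersion ψ]
  (c : X ⟶ X₀) (hc : IsPullback c f f₀ ψ)
  (hgood : ∀ z : Spec (CommRingCat.of A), IsClosed ({z} : Set (Spec (CommRingCat.of A))) →
    topologicalKrullDim ↥(f₀.fiber (ψ z)) ≤ 1 ∧
      Subsingleton (Coh.HH (f₀.fiber (ψ z)) (Coh.structureModule (f₀.fiber (ψ z))) 1))

include hd hc hgood in
/-- A quotient of the structure sheaf killed by a maximal ideal has no first cohomology. -/
theorem subsingleton_h1_killed (m : Ideal A) [m.IsMaximal] {Q : X.Modules} (hQ : Coh.IsCoh Q)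
    (π : Coh.structureModule X ⟶ Q) [Epi π]
    (hkill : letI : X.Over (Spec (CommRingCat.of A)) := ⟨f⟩; ∀ a ∈ m, smulMod A Q a = 0) :
    Subsingleton (Coh.HH X Q 1) := by
  letI : X.Over (Spec (CommRingCat.of A)) := ⟨f⟩
  let I := Groth.L16.SchSupport.annIdeal hQ
  let i := I.subschemeι
  have hzero : ∀ a ∈ m, Coh.toGlobal (i ≫ f) a = 0 := by
    intro a ha
    show (i ≫ f).appTop ((Scheme.ΓSpecIso (CommRingCat.of A)).inv a) = 0
    rw [Scheme.Hom.comp_appTop, ConcreteCategory.comp_apply]
    refine I.subscheme.sheaf.eq_of_locally_eq' (fun U : X.affineOpens => i ⁻¹ᵁ U.1) ⊤ (fun U => homOfLE le_top)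
      (fun z _ => ?_) _ _ fun U => ?_
    · obtain ⟨_, ⟨U, hU, rfl⟩, hzU, -⟩ :=
        X.isBasis_affineOpens.exists_subset_of_mem_open (Set.mem_univ (i z)) isOpen_univ
      exact Opens.mem_iSup.2 ⟨⟨U, hU⟩, hzU⟩
    rw [map_zero]
    refine Eq.trans (ConcreteCategory.congr_hom (i.naturality (homOfLE (le_top : U.1 ≤ ⊤)).op)
      (Coh.toGlobal f a)).symm ?_
    show (i.app U.1).hom (X.presheaf.map (homOfLE (le_top : U.1 ≤ ⊤)).op (Coh.toGlobal f a)) = 0
    rw [← RingHom.mem_ker, ← Scheme.Hom.ker_apply, I.ker_subschemeι, Groth.L16.SchSupport.annIdeal_ideal,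
      Module.mem_annihilator]
    intro v
    exact congrArg (fun φ : Q ⟶ Q => φ.app U.1 v) (hkill a ha)
  obtain ⟨t, ht⟩ := exists_factor_quotient (i ≫ f) m hzero
  letI := Ideal.Quotient.field m
  let q := Spec.map (CommRingCat.ofHom (Ideal.Quotient.mk m))
  let pt : Spec (CommRingCat.of (A ⧸ m)) := IsLocalRing.closedPoint (A ⧸ m)
  obtain ⟨⟨y, φ⟩, hq⟩ := (Scheme.SpecToEquivOfField (A ⧸ m) S₀).symm.surjective (q ≫ ψ)
  replace hq : Spec.map φ ≫ S₀.fromSpecResidueField y = q ≫ ψ := hq
  have hy : y = ψ (q pt) := by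
    rw [← Scheme.Hom.comp_apply, ← hq, Scheme.Hom.comp_apply, Scheme.fromSpecResidueField_apply]
  haveI : IsClosedImmersion q := IsClosedImmersion.spec_of_surjective _ Ideal.Quotient.mk_surjective
  have hcl : IsClosed ({q pt} : Set (Spec (CommRingCat.of A))) := by
    have h := q.isClosedEmbedding.isClosedMap _ (isClosed_discrete ({pt} : Set (Spec (CommRingCat.of (A ⧸ m)))))
    rwa [Set.image_singleton] at h
  obtain ⟨hdim, hvan⟩ := hgood _ hcl
  rw [← hy] at hdim hvan
  haveI : IsPreimmersion c := MorphismProperty.of_isPullback hc.flip inferInstance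
  have hsq : (i ≫ c) ≫ f₀ = (t ≫ Spec.map φ) ≫ S₀.fromSpecResidueField y := by
    rw [Category.assoc, Category.assoc, hq, hc.w, ← Category.assoc i, ← ht, Category.assoc]
  let j : I.subscheme ⟶ f₀.fiber y := pullback.lift (i ≫ c) (t ≫ Spec.map φ) hsq
  have hj : j ≫ f₀.fiberι y = i ≫ c := pullback.lift_fst _ _ _
  haveI : IsProper (f₀.fiberToSpecResidueField y) := MorphismProperty.pullback_snd _ _ inferInstance
  haveI : IsPreimmersion j := by
    haveI : IsPreimmersion (j ≫ f₀.fiberι y) := by rw [hj]; infer_instance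
    exact IsPreimmersion.of_comp j (f₀.fiberι y)
  haveI : IsClosedImmersion j := IsClosedImmersion.of_isPreimmersion j (by
    obtain ⟨C, hC, hCi⟩ := c.isEmbedding.isInducing.isClosed_iff.1 i.isClosedEmbedding.isClosed_range
    have : Set.range j = f₀.fiberι y ⁻¹' C := by
      ext z
      constructor
      · rintro ⟨w, rfl⟩
        show f₀.fiberι y (j w) ∈ C
        rw [← Scheme.Hom.comp_apply, hj]
        exact hCi.ge ⟨w, rfl⟩
      · intro hz
        have hzy : f₀ (f₀.fiberι y z) = ψ (q pt) := ((f₀.range_fiberι y).le ⟨z, rfl⟩).trans hy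
        obtain ⟨x, hx, -⟩ := Scheme.exists_preimage_of_isPullback hc _ _ hzy
        obtain ⟨w, hw⟩ := hCi.le (show c x ∈ C from hx.symm ▸ hz)
        refine ⟨w, (f₀.fiberι y).isEmbedding.injective ?_⟩
        rw [← Scheme.Hom.comp_apply, hj, Scheme.Hom.comp_apply, hw, hx]
    rw [this]
    exact hC.preimage (f₀.fiberι y).continuous)
  have hK : IsField (S₀.residueField y) := Field.toIsField _
  have hZ : RightExact I.subscheme := rightExact_field hK (j ≫ f₀.fiberToSpecResidueField y)
    ((j.isEmbedding.isInducing.topologicalKrullDim_le).trans hdim)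
  have hF : RightExact (f₀.fiber y) := rightExact_field hK (f₀.fiberToSpecResidueField y) hdim
  haveI hO : Subsingleton (Coh.HH I.subscheme (Coh.structureModule I.subscheme) 1) := by
    haveI := Groth.L12.VBLift.epi_unitToPush j
    haveI := hvan
    haveI := subsingleton_of_epi hF (ClSub.unitToPush j) (isCoh_structure_any _).1
      (Groth.L16.CohClosedPush.isCoh_push j (isCoh_structure_any _)).1
    obtain ⟨e⟩ := Groth.L17.nonempty_HH_push_of_isClosedImmersion j (Coh.structureModule I.subscheme) 1
    exact e.toEquiv.subsingleton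
  haveI : (Scheme.Modules.pullback i).IsLeftAdjoint :=
    (Scheme.Modules.pullbackPushforwardAdjunction i).isLeftAdjoint
  haveI : Subsingleton (Coh.HH I.subscheme ((Scheme.Modules.pullback i).obj Q) 1) :=
    subsingleton_of_epi hZ ((Groth.L29.LocFree.pullbackUnitIso i).inv ≫ (Scheme.Modules.pullback i).map π)
      (isCoh_structure_any _).1 (Groth.L16.AffineBC.isCoh_pullback i hQ).1
  haveI := Groth.L16.SchSupport.isIso_unit_annIdeal hQ
  obtain ⟨e⟩ := Groth.L17.nonempty_HH_push_of_isClosedImmersion i ((Scheme.Modules.pullback i).obj Q) 1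
  haveI : Subsingleton (Coh.HH X ((Coh.push i).obj ((Scheme.Modules.pullback i).obj Q)) 1) :=
    e.symm.toEquiv.subsingleton
  let η : Q ≅ (Coh.push i).obj ((Scheme.Modules.pullback i).obj Q) :=
    asIso ((Scheme.Modules.pullbackPushforwardAdjunction i).unit.app Q)
  exact subsingleton_of_iso η.symm 1

include hd hc hgood in
/-- The structure sheaf has no first cohomology. -/
theorem subsingleton_h1_structure : Subsingleton (Coh.HH X (Coh.structureModule X) 1) := by
  classical
  letI : X.Over (Spec (CommRingCat.of A)) := ⟨f⟩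
  haveI : CompactSpace X := QuasiCompact.compactSpace_of_compactSpace f
  haveI : X.IsSeparated := ⟨by rw [← terminal.comp_from f]; infer_instance⟩
  have hO := isCoh_structure_any X
  haveI : Module.Finite A (Coh.HH X (Coh.structureModule X) 1) :=
    Groth.L19.VanishFibre.finite_HH_top f (d := 1) hd _ hO
  have hm : ∀ m : Ideal A, m.IsMaximal →
      (⊤ : Submodule A (Coh.HH X (Coh.structureModule X) 1)) ≤ m • ⊤ := by
    intro m hm x _
    let θ : (∐ fun _ : m => Coh.structureModule X) ⟶ Coh.structureModule X :=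
      Sigma.desc fun a : m => smulMod A (Coh.structureModule X) (a : A)
    have hsrc : Coh.IsQCoh (∐ fun _ : m => Coh.structureModule X) :=
      Groth.L00.AlgQCoh.isQCoh_sigma _ fun _ => hO.1
    have hQc := (Groth.L00.AlgQCoh.isQCoh_kernel_cokernel θ hsrc hO.1).2
    have hkill : ∀ a ∈ m, smulMod A (cokernel θ) a = 0 := fun a ha => by
      rw [← cancel_epi (cokernel.π θ), ← Groth.L16.Rees.smulMod_naturality, comp_zero,
        show smulMod A (Coh.structureModule X) a = Sigma.ι (fun _ : m => Coh.structureModule X) ⟨a, ha⟩ ≫ θ from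
          (Sigma.ι_desc (fun b : m => smulMod A (Coh.structureModule X) (b : A)) ⟨a, ha⟩).symm, Category.assoc,
        cokernel.condition, comp_zero]
    haveI := subsingleton_h1_killed f hd f₀ ψ c hc hgood m ⟨hQc, Groth.L17.Approx.isFT_of_epi (cokernel.π θ) hO.2⟩
      (cokernel.π θ) hkill
    let S := ShortComplex.mk (kernel.ι (cokernel.π θ)) (cokernel.π θ) (kernel.condition _)
    have hS : S.ShortExact :=
      { exact := ShortComplex.exact_of_f_is_kernel _ (kernelIsKernel _) }
    obtain ⟨y, rfl⟩ := (exact_hmap_hmap hS 1 x).1 (Subsingleton.elim _ _)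
    haveI : Epi (kernel.lift (cokernel.π θ) θ (cokernel.condition θ)) :=
      (ShortComplex.exact_cokernel θ).epi_kernelLift
    obtain ⟨z, rfl⟩ := surjective_hmap_one_of_epi (rightExact_affine f hd)
      (kernel.lift (cokernel.π θ) θ (cokernel.condition θ)) hsrc
      (Groth.L00.AlgQCoh.isQCoh_kernel_cokernel (cokernel.π θ) hO.1 hQc).1 y
    obtain ⟨T, w, rfl⟩ := exists_finset_hmap _ 1 z
    show hmap (kernel.ι (cokernel.π θ)) 1 (hmap (kernel.lift _ θ _) 1 _) ∈ _
    rw [← hmap_comp, kernel.lift_ι, ← hmap_comp]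
    let e := biproduct.isoCoproduct fun _ : T => Coh.structureModule X
    have hw : w = hmap e.hom 1 (hmap e.inv 1 w) := by rw [← hmap_comp, e.inv_hom_id, hmap_id]
    rw [hw, hh_biproduct _ 1 (hmap e.inv 1 w), map_sum, map_sum]
    refine Submodule.sum_mem _ fun a _ => ?_
    rw [← hmap_comp, ← hmap_comp]
    have hι : biproduct.ι (fun _ : T => Coh.structureModule X) a ≫ e.hom ≫
        (Sigma.desc fun s : T => Sigma.ι (fun _ : m => Coh.structureModule X) s.1.as) ≫ θ =
        smulMod A (Coh.structureModule X) ((a.1.as : m) : A) := by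
      simp [e, θ, biproduct.isoCoproduct_hom]
    rw [hι, Groth.L16.Rees.hmap_smulMod]
    exact Submodule.smul_mem_smul (a.1.as).2 trivial
  refine subsingleton_of_forall_eq 0 fun x => ?_
  by_contra hx
  obtain ⟨m, hm', hle⟩ := Ideal.exists_le_maximal (LinearMap.ker (LinearMap.toSpanSingleton A _ x)) (by
    rw [Ideal.ne_top_iff_one, LinearMap.mem_ker, LinearMap.toSpanSingleton_apply, one_smul]
    exact hx)
  obtain ⟨c, hc1, hc⟩ := Submodule.exists_sub_one_mem_and_smul_eq_zero_of_fg_of_le_smul m
    (⊤ : Submodule A (Coh.HH X (Coh.structureModule X) 1)) Module.Finite.fg_top (hm m hm')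
  refine hm'.ne_top ((Ideal.eq_top_iff_one m).2 ?_)
  have hcm : c ∈ m := hle (by rw [LinearMap.mem_ker, LinearMap.toSpanSingleton_apply]; exact hc x trivial)
  simpa using m.sub_mem hcm hc1

end Groth.L12.GenusZero
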