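import Groth.Agent.L12.GenusZero.Affine
import Groth.Agent.L16.Rees.StalkFF
import Groth.Agent.L14.LocHilb.Lift.Obs.Cls
import Groth.Agent.L00.SubExtendMain
import Groth.Agent.L20.Strat.Stratification

/-!
# Base change when the first cohomology of the structure sheaf vanishes
-/

set_option autoImplicit false
set_option linter.style.haveILetI false
set_option linter.unusedSectionVars false
set_option backward.isDefEq.respectTransparency false
set_option backward.isDefEq.respectTransparency.types false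

universe u

open CategoryTheory CategoryTheory.Limits AlgebraicGeometry TopologicalSpace Opposite
open scoped TensorProduct

noncomputable section

namespace Groth.L12.GenusZero

open Formal (smulMod smulModΓ)
open Groth.L16.CohLinear (hmap hmap_comp hmap_id)
open Groth.L21.RR (e0 oneSec)

/-- Fibre dimensions after base change. -/
theorem fiber_dim_le_of_isPullback {X Y X' Y' : Scheme.{u}} {g : X' ⟶ X} {f' : X' ⟶ Y'} {f : X ⟶ Y} {ψ : Y' ⟶ Y}
    [LocallyOfFiniteType f] (sq : IsPullback g f' f ψ) {d : WithBot ℕ∞} (z : Y')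
    (hd : topologicalKrullDim ↥(f.fiber (ψ z)) ≤ d) :
    topologicalKrullDim ↥(f'.fiber z) ≤ d := by
  haveI : LocallyOfFiniteType f' := MorphismProperty.of_isPullback sq inferInstance
  rw [Groth.L07.FibreDim.fiber_dim_le_iff] at hd ⊢
  intro x hx
  rw [Groth.L23.fibreDimAt_of_isPullback sq]
  refine hd (g x) ?_
  rw [← hx, ← Scheme.Hom.comp_apply, sq.w, Scheme.Hom.comp_apply]

variable {A : Type u} [CommRing A] {X : Scheme.{u}} (f : X ⟶ Spec (CommRingCat.of A)) [IsProper f]
  (h1 : Subsingleton (Coh.HH X (Coh.structureModule X) 1))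

section Flat

variable {P : Type u} [CommRing P] [Algebra A P] [Module.Flat A P] {X' : Scheme.{u}}
  (f' : X' ⟶ Spec (CommRingCat.of P)) (g : X' ⟶ X)
  (sq : IsPullback g f' f (Spec.map (CommRingCat.ofHom (algebraMap A P))))

include h1 sq in
theorem subsingleton_h1_flat : Subsingleton (Coh.HH X' (Coh.structureModule X') 1) := by
  haveI : Coh.IsQCoh (Coh.structureModule X) := (isCoh_structure_any X).1
  letI : Module A (Coh.HH X (Coh.structureModule X) 1) := Module.compHom _ (Coh.toGlobal f)
  obtain ⟨e⟩ := Groth.L16.Rees.exists_flat_bc_equiv f f' g sq (Coh.structureModule X) 1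
  haveI := h1
  haveI : Subsingleton (P ⊗[A] Coh.HH X (Coh.structureModule X) 1) := inferInstance
  haveI : Subsingleton (Coh.HH X' ((Scheme.Modules.pullback g).obj (Coh.structureModule X)) 1) :=
    e.symm.toEquiv.subsingleton
  exact subsingleton_of_iso (Groth.L29.LocFree.pullbackUnitIso g) 1

variable (hsurj : Function.Surjective (Coh.toGlobal f))

include hsurj sq in
theorem surjective_toGlobal_flat : Function.Surjective (Coh.toGlobal f') := by
  haveI : Coh.IsQCoh (Coh.structureModule X) := (isCoh_structure_any X).1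
  letI : Module A (Coh.HH X (Coh.structureModule X) 0) := Module.compHom _ (Coh.toGlobal f)
  letI : Module P (Coh.HH X' ((Scheme.Modules.pullback g).obj (Coh.structureModule X)) 0) :=
    Module.compHom _ (Coh.toGlobal f')
  obtain ⟨e⟩ := Groth.L16.Rees.exists_flat_bc_equiv f f' g sq (Coh.structureModule X) 0
  let one : Coh.HH X (Coh.structureModule X) 0 := (e0 _).symm (oneSec X)
  have hgen : ∀ x : Coh.HH X (Coh.structureModule X) 0, ∃ a : A, a • one = x := fun x => by
    obtain ⟨a, ha⟩ := hsurj (show Γ(X, ⊤) from e0 _ x)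
    refine ⟨a, (e0 _).injective ?_⟩
    rw [show a • one = (Coh.toGlobal f a : Coh.Γtop X) • one from rfl, Groth.L14.LocHilbLift.e0_smul,
      AddEquiv.apply_symm_apply, Coh.smulAb_app]
    refine (mul_one (M := Γ(X, ⊤)) _).trans ?_
    exact (Groth.L18.Frame.ro_self le_rfl _).trans ha
  have hT : ∀ t : P ⊗[A] Coh.HH X (Coh.structureModule X) 0, ∃ p : P, p • ((1 : P) ⊗ₜ[A] one) = t := fun t => by
    induction t using TensorProduct.induction_on with
    | zero => exact ⟨0, zero_smul _ _⟩
    | add a b ha hb =>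
      obtain ⟨p, rfl⟩ := ha; obtain ⟨q, rfl⟩ := hb
      exact ⟨p + q, add_smul _ _ _⟩
    | tmul p x =>
      obtain ⟨a, rfl⟩ := hgen x
      refine ⟨a • p, ?_⟩
      rw [TensorProduct.smul_tmul', smul_eq_mul, mul_one, TensorProduct.smul_tmul]
  let η := Groth.L29.LocFree.pullbackUnitIso g
  let E : P ⊗[A] Coh.HH X (Coh.structureModule X) 0 → Γ(X', ⊤) := fun t => e0 _ (hmap η.hom 0 (e t))
  have hEs : ∀ (p : P) (t : P ⊗[A] Coh.HH X (Coh.structureModule X) 0), E (p • t) = (show Γ(X', ⊤) from Coh.toGlobal f' p) * E t :=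
    fun p t => by
      show e0 _ (hmap η.hom 0 (e (p • t))) = _
      rw [map_smul, show p • e t = (Coh.toGlobal f' p : Coh.Γtop X') • e t from rfl, map_smul,
        Groth.L14.LocHilbLift.e0_smul, Coh.smulAb_app]
      exact congrArg (· * E t) (Groth.L18.Frame.ro_self le_rfl _)
  let ε := E ((1 : P) ⊗ₜ[A] one)
  let τ : P →+* Γ(X', ⊤) := Coh.toGlobal f'
  have hE : ∀ z : Γ(X', ⊤), ∃ p : P, τ p * ε = z := fun z => by
    obtain ⟨t, ht⟩ : ∃ t, E t = z := by
      refine ⟨e.symm (hmap η.inv 0 ((e0 (Coh.structureModule X')).symm z)), ?_⟩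
      show e0 _ (hmap η.hom 0 _) = z
      rw [LinearEquiv.apply_symm_apply, ← hmap_comp, η.inv_hom_id, hmap_id, AddEquiv.apply_symm_apply]
    obtain ⟨p, rfl⟩ := hT t
    exact ⟨p, (hEs p _).symm.trans ht⟩
  obtain ⟨p₀, hp₀⟩ := hE 1
  obtain ⟨q, hq⟩ := hE (ε * ε)
  have hε : τ q = ε := by
    calc τ q = τ q * (τ p₀ * ε) := by rw [hp₀, mul_one]
      _ = τ p₀ * (τ q * ε) := by ring
      _ = ε := by rw [hq, ← mul_assoc, hp₀, one_mul]
  exact fun z => by
    obtain ⟨p, rfl⟩ := hE z
    exact ⟨p * q, show τ (p * q) = τ p * ε by rw [map_mul, hε]⟩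

end Flat

section Closed

variable (h2 : RightExact X) {B : Type u} [CommRing B] [Algebra A B] {X' : Scheme.{u}}
  (f' : X' ⟶ Spec (CommRingCat.of B)) (g : X' ⟶ X)
  (sq : IsPullback g f' f (Spec.map (CommRingCat.ofHom (algebraMap A B))))
  (hAB : Function.Surjective (algebraMap A B))

include h1 h2 sq hAB in
theorem closed_baseChange :
    Subsingleton (Coh.HH X' (Coh.structureModule X') 1) ∧
      (Function.Surjective (Coh.toGlobal f) → Function.Surjective (Coh.toGlobal f')) := by
  classical
  letI : X.Over (Spec (CommRingCat.of A)) := ⟨f⟩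
  haveI : CompactSpace X := QuasiCompact.compactSpace_of_compactSpace f
  haveI : X.IsSeparated := ⟨by rw [← terminal.comp_from f]; infer_instance⟩
  haveI : IsClosedImmersion (Spec.map (CommRingCat.ofHom (algebraMap A B))) :=
    IsClosedImmersion.spec_of_surjective _ hAB
  haveI : IsClosedImmersion g := MorphismProperty.of_isPullback sq.flip inferInstance
  haveI := Groth.L12.VBLift.epi_unitToPush g
  let u := ClSub.unitToPush g
  let J := RingHom.ker (algebraMap A B)
  have hO := isCoh_structure_any X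
  have hN := Groth.L16.CohClosedPush.isCoh_push g (isCoh_structure_any X')
  let θ : (∐ fun _ : J => Coh.structureModule X) ⟶ Coh.structureModule X :=
    Sigma.desc fun a : J => smulMod A (Coh.structureModule X) (a : A)
  have hι : ∀ a : J, Sigma.ι (fun _ : J => Coh.structureModule X) a ≫ θ = smulMod A (Coh.structureModule X) (a : A) :=
    fun a => Sigma.ι_desc (fun b : J => smulMod A (Coh.structureModule X) (b : A)) a
  have hc := Groth.L17.BC.compat_of_isPullback f f' g sq
  have w : θ ≫ u = 0 := Sigma.hom_ext _ _ fun a => by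
    rw [← Category.assoc, hι, comp_zero]
    refine Scheme.Modules.hom_ext _ _ fun U => ?_
    ext m
    show g.app U ((smulModΓ (Coh.structureModule X) (Coh.toGlobal f (a : A))).app U m) = 0
    rw [Groth.L16.Rees.smulModΓ_app]
    refine (map_mul (g.app U).hom _ _).trans ?_
    rw [show g.app U (Coh.resTop X (op U) (Coh.toGlobal f (a : A))) =
      X'.presheaf.map (homOfLE le_top).op (g.appTop (Coh.toGlobal f (a : A))) from
        ConcreteCategory.congr_hom (g.naturality (homOfLE (le_top : U ≤ ⊤)).op) _,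
      show g.appTop (Coh.toGlobal f (a : A)) = Coh.toGlobal f' (algebraMap A B a) from hc a,
      show algebraMap A B a = 0 from a.2, map_zero, map_zero, zero_mul]
  have hsrc : Coh.IsQCoh (∐ fun _ : J => Coh.structureModule X) :=
    Groth.L00.AlgQCoh.isQCoh_sigma _ fun _ => hO.1
  haveI : Epi (kernel.lift u θ w) := Groth.L00.SubExtend.epi_of_affine _ fun W hW z => by
    let r : Γ(X, W) := (kernel.ι u).app W z
    have hr : g.app W r = 0 := congrArg (fun φ : kernel u ⟶ _ => φ.app W z) (kernel.condition u)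
    have hpo := Groth.L17.BC.isPushout_sections f f' g sq hW
    let I := J.map (Groth.L17.BC.act (Coh.toGlobal f) W)
    let μ : CommRingCat.of B ⟶ CommRingCat.of (Γ(X, W) ⧸ I) := CommRingCat.ofHom (RingHom.liftOfSurjective
      (algebraMap A B) hAB ⟨(Ideal.Quotient.mk I).comp (Groth.L17.BC.act (Coh.toGlobal f) W : A →+* Γ(X, W)),
        fun a ha => Ideal.Quotient.eq_zero_iff_mem.2 (Ideal.mem_map_of_mem _ ha)⟩)
    have hmem : r ∈ I := Ideal.Quotient.eq_zero_iff_mem.1 (by
      have hμ : CommRingCat.ofHom (Groth.L17.BC.act (Coh.toGlobal f) W) ≫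
          CommRingCat.ofHom (Ideal.Quotient.mk I) = CommRingCat.ofHom (algebraMap A B) ≫ μ := by
        ext a
        exact (RingHom.liftOfRightInverse_comp_apply (algebraMap A B) (Function.surjInv hAB) (Function.rightInverse_surjInv hAB) ⟨(Ideal.Quotient.mk I).comp (Groth.L17.BC.act (Coh.toGlobal f) W : A →+* Γ(X, W)), fun x hx => Ideal.Quotient.eq_zero_iff_mem.2 (Ideal.mem_map_of_mem _ hx)⟩ a).symm
      have := ConcreteCategory.congr_hom (hpo.inl_desc (CommRingCat.ofHom (Ideal.Quotient.mk I)) μ hμ) r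
      rw [ConcreteCategory.comp_apply, hr, map_zero] at this
      exact this.symm)
    suffices h : ∀ r' ∈ I, ∃ v, θ.app W v = r' by
      obtain ⟨v, hv⟩ := h r hmem
      refine ⟨v, Groth.L20.Strat.app_injective_of_mono (kernel.ι u) W ?_⟩
      exact (congrArg (fun φ : (∐ fun _ : J => Coh.structureModule X) ⟶ _ => φ.app W v)
        (kernel.lift_ι u θ w)).trans hv
    intro r' hr'
    induction hr' using Submodule.span_induction with
    | mem y hy =>
      obtain ⟨a, ha, rfl⟩ := hy
      refine ⟨(Sigma.ι (fun _ : J => Coh.structureModule X) ⟨a, ha⟩).app W (1 : Γ(X, W)), ?_⟩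
      refine (congrArg (fun φ : Coh.structureModule X ⟶ _ => φ.app W (1 : Γ(X, W))) (hι ⟨a, ha⟩)).trans ?_
      show (smulModΓ (Coh.structureModule X) (Coh.toGlobal f a)).app W (1 : Γ(X, W)) = _
      rw [Groth.L16.Rees.smulModΓ_app]
      exact mul_one (M := Γ(X, W)) _
    | zero => exact ⟨0, map_zero _⟩
    | add y z _ _ hy hz =>
      obtain ⟨v, rfl⟩ := hy; obtain ⟨v', rfl⟩ := hz
      exact ⟨v + v', map_add _ _ _⟩
    | smul c y _ hy =>
      obtain ⟨v, rfl⟩ := hy
      exact ⟨c • v, θ.app_smul c v⟩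
  haveI : Subsingleton (Coh.HH X (∐ fun _ : J => Coh.structureModule X) 1) :=
    subsingleton_h1_globallyGenerated h2 h1 hsrc (𝟙 _)
  haveI : Subsingleton (Coh.HH X (kernel u) 1) := subsingleton_of_epi h2 (kernel.lift u θ w) hsrc
    (Groth.L00.AlgQCoh.isQCoh_kernel_cokernel u hO.1 hN.1).1
  have hS : (ShortComplex.mk (kernel.ι u) u (kernel.condition u)).ShortExact :=
    { exact := ShortComplex.exact_of_f_is_kernel _ (kernelIsKernel u) }
  refine ⟨?_, fun hsurj z => ?_⟩
  · haveI := h1
    haveI := subsingleton_of_epi h2 u hO.1 hN.1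
    obtain ⟨e⟩ := Groth.L17.nonempty_HH_push_of_isClosedImmersion g (Coh.structureModule X') 1
    exact e.toEquiv.subsingleton
  · let φ : Coh.structureModule X ⟶ (Scheme.Modules.pushforward g).obj (Coh.structureModule X') :=
      Groth.L16.homOfSection _ (show Γ((Scheme.Modules.pushforward g).obj (Coh.structureModule X'), ⊤) from z)
    obtain ⟨ψ, hψ⟩ := exists_lift hS φ
    obtain ⟨a, ha⟩ := hsurj (ψ.app ⊤ (oneSec X))
    refine ⟨algebraMap A B a, ?_⟩
    rw [← hc a, ha]
    refine (congrArg (fun χ : Coh.structureModule X ⟶ _ => χ.app ⊤ (oneSec X)) hψ).trans ?_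
    exact Groth.L21.RR.app_homOfSection_one _

end Closed

end Groth.L12.GenusZero
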