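import Groth.Agent.L12.GenusZero.Basic
import Groth.Agent.L22.CurveDeg.Devissage
import Groth.Agent.L12.FinCov.Frame
import Groth.Agent.L21.Duality.CliffordEquality
import Groth.Agent.L18.AmplePull
import Groth.Agent.L07.DiffOpSheaf

/-!
# Degrees of nef modules on one-dimensional proper schemes
-/

set_option autoImplicit false
set_option linter.style.haveILetI false
set_option linter.unusedSectionVars false
set_option backward.isDefEq.respectTransparency false
set_option backward.isDefEq.respectTransparency.types false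

universe u

open CategoryTheory CategoryTheory.Limits AlgebraicGeometry TopologicalSpace Opposite

noncomputable section

namespace Groth.L12.GenusZero

open Groth.L22.CurveDeg (phi)
open Groth.L21.RR (st)

variable {X : Scheme.{u}} (k : Type u) [Field k] [X.Over (Spec (CommRingCat.of k))]

/-- Non-negative degree on every integral curve in the scheme. -/
def Nef (L : X.Modules) : Prop :=
  ∀ (C : Scheme.{u}) (j : C ⟶ X) [IsClosedImmersion j], IsIntegral C → topologicalKrullDim C = 1 →
    0 ≤ @Curv2.deg k _ C ⟨j ≫ (X ↘ Spec (CommRingCat.of k))⟩ ((Scheme.Modules.pullback j).obj L) 1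

/-- An integral space of dimension at most one with non-closed generic point is a curve. -/
theorem dim_eq_one_of_not_isClosed {C : Scheme.{u}} [IsIntegral C] (hd : topologicalKrullDim C ≤ 1)
    (hη : ¬ IsClosed ({genericPoint C} : Set C)) : topologicalKrullDim C = 1 := by
  refine le_antisymm hd ?_
  obtain ⟨z, hz⟩ : ∃ z, z ≠ genericPoint C := by
    by_contra h
    push Not at h
    exact hη (by convert isClosed_univ; exact Set.eq_univ_of_forall fun z => h z)
  let c : C → IrreducibleCloseds C :=
    fun a => ⟨closure ({a} : Set C), isIrreducible_singleton.closure, isClosed_closure⟩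
  have hlt : c z < c (genericPoint C) := by
    refine lt_of_le_of_ne (show closure {z} ⊆ closure {genericPoint C} by
      rw [(genericPoint_spec C).def]; exact Set.subset_univ _) fun e => hz ?_
    have h1 : closure ({z} : Set C) = Set.univ := by
      rw [show closure ({z} : Set C) = closure {genericPoint C} from congrArg IrreducibleCloseds.carrier e,
        (genericPoint_spec C).def]
    exact (show IsGenericPoint z Set.univ from h1).eq (genericPoint_spec C)
  have h := Order.LTSeries.length_le_krullDim ((RelSeries.singleton _ (c z)).snoc (c (genericPoint C)) hlt)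
  simpa [RelSeries.snoc_length, RelSeries.singleton_length] using! h

variable [IsProper (X ↘ Spec (CommRingCat.of k))]

/-- The twisting invariant of a nef module is non-negative. -/
theorem phi_nonneg (hd : topologicalKrullDim X ≤ 1) {L : X.Modules} (hL : PicF.IsInvertible L) (hnef : Nef k L)
    {F : X.Modules} (hF : Coh.IsCoh F) : 0 ≤ phi k L 1 F := by
  classical
  haveI := Groth.L21.RR.isNoetherian_of_proper (X := X) k
  haveI : X.IsSeparated := ⟨by
    rw [← terminal.comp_from (X ↘ Spec (CommRingCat.of k))]; infer_instance⟩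
  have hE : FlatMod.IsFinLocFreeOfRank 1 L := Groth.L12.FinCov.isFinLocFreeOfRank_one_of_isInvertible hL
  let S := (Groth.L22.CurveDeg.finite_nonclosed hd).toFinset
  have hS : ∀ x, x ∈ S ↔ ¬ IsClosed ({x} : Set X) := fun x => Set.Finite.mem_toFinset _
  have hG : ∀ y : X, ∃ G : X.Modules, Coh.IsCoh G ∧ CohB1.support G ⊆ closure {y} ∧
      Groth.L16.CohSupport.len y G = 1 ∧ (¬ IsClosed ({y} : Set X) → 0 ≤ phi k L 1 G) := fun y => by
    obtain ⟨Z, i, hi, hZ, hgen, hrange⟩ := Groth.L16.CohClosedPush.exists_integral y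
    haveI : IsLocallyNoetherian Z := LocallyOfFiniteType.isLocallyNoetherian i
    refine ⟨_, Groth.L16.CohClosedPush.isCoh_push i Groth.L16.CohClosedPush.isCoh_structure,
      (Groth.L16.CohClosedPush.support_push_subset i _).trans hrange.le,
      hgen ▸ Groth.L16.CohClosedPush.len_push_structure i, fun hy => ?_⟩
    letI : Z.Over (Spec (CommRingCat.of k)) := ⟨i ≫ (X ↘ Spec (CommRingCat.of k))⟩
    haveI : IsProper (Z ↘ Spec (CommRingCat.of k)) :=
      inferInstanceAs (IsProper (i ≫ (X ↘ Spec (CommRingCat.of k))))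
    have hdim : topologicalKrullDim Z = 1 := dim_eq_one_of_not_isClosed
      ((i.isEmbedding.isInducing.topologicalKrullDim_le).trans hd) fun hc => hy (by
        have := i.isClosedEmbedding.isClosedMap _ hc
        rwa [Set.image_singleton, hgen] at this)
    have h1 := Groth.L22.CurveDeg.phi_push (X := Z) k i rfl hE (Coh.structureModule Z)
      Groth.L16.CohClosedPush.isCoh_structure.1
    rw [Groth.L22.CurveDeg.phi_structure] at h1
    rw [show (Scheme.Modules.pushforward i).obj (Coh.structureModule Z) = (Coh.push i).obj (Coh.structureModule Z)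
      from rfl] at h1
    rw [h1]
    exact hnef Z i hZ hdim
  choose G hG using hG
  rw [Groth.L22.CurveDeg.phi_eq_sum k hd hE S hS G (fun y _ => ⟨(hG y).1, (hG y).2.1, (hG y).2.2.1⟩) hF]
  exact Finset.sum_nonneg fun y hy => mul_nonneg (Nat.cast_nonneg _) ((hG y).2.2.2 ((hS y).1 hy))

/-- An ample module has non-negative degree on integral proper curves. -/
theorem deg_nonneg_of_isAmple [IsIntegral X] (hd : topologicalKrullDim X = 1) {M : X.Modules}
    (hM : CohB1.IsAmple M) : 0 ≤ Curv2.deg k X M 1 := by
  haveI := Groth.L21.RR.isNoetherian_of_proper (X := X) k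
  obtain ⟨n, s, hs, -⟩ := hM.2.2 (genericPoint X)
  have hM' := Groth.L18.Ample.isInvertible_tensorPow hM.1 (n + 1)
  have hsurj := (Groth.L21.RR.mem_genLocus_iff hM' s _).1 hs
  have hne : Nontrivial (Coh.HH X (CohB1.tensorPow M (n + 1)) 0) := by
    refine ⟨(Groth.L21.RR.e0 _).symm (s.app ⊤ (Groth.L21.RR.oneSec X)), 0, fun h => ?_⟩
    have h0 : s = 0 := Groth.L21.RR.hom_ext_one (by
      have h' := congrArg (Groth.L21.RR.e0 _) h
      rw [AddEquiv.apply_symm_apply, map_zero] at h'
      exact h'.trans rfl)
    obtain ⟨e, he⟩ := Groth.L21.RR.exists_frame_stalk hM' (genericPoint X)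
    obtain ⟨r, hr⟩ := hsurj e
    subst h0
    have he0 : e = 0 := by rw [← hr, st, Functor.map_zero]; rfl
    exact one_ne_zero (α := X.presheaf.stalk (genericPoint X)) (he.1 (by simp [he0]))
  have h1 := Groth.L21.RR.deg_nonneg k hd.le hM' hne
  rw [Groth.L21.Duality.deg_tensorPow (k := k) hd hM.1] at h1
  exact (mul_nonneg_iff_of_pos_left (by positivity)).1 h1

/-- Ample modules are nef. -/
theorem nef_of_isAmple {L : X.Modules} (hL : CohB1.IsAmple L) : Nef k L := by
  intro C j _ hC hdim
  letI : C.Over (Spec (CommRingCat.of k)) := ⟨j ≫ (X ↘ Spec (CommRingCat.of k))⟩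
  haveI : IsProper (C ↘ Spec (CommRingCat.of k)) :=
    inferInstanceAs (IsProper (j ≫ (X ↘ Spec (CommRingCat.of k))))
  haveI := hC
  exact deg_nonneg_of_isAmple k hdim (Groth.L18.Ample.isAmple_pullback_of_isAffineHom j hL)

omit [IsProper (X ↘ Spec (CommRingCat.of k))] in
/-- The degree does not change along an isomorphism. -/
theorem deg_pullback_of_isIso {C C' : Scheme.{u}} [C.Over (Spec (CommRingCat.of k))]
    [C'.Over (Spec (CommRingCat.of k))] [C'.IsSeparated] (e : C ⟶ C') [IsIso e]
    (he : e ≫ (C' ↘ Spec (CommRingCat.of k)) = C ↘ Spec (CommRingCat.of k))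
    {L : C'.Modules} (hL : PicF.IsInvertible L) :
    Curv2.deg k C ((Scheme.Modules.pullback e).obj L) 1 = Curv2.deg k C' L 1 := by
  have h1 : ∀ M : C'.Modules, Coh.IsQCoh M →
      Curv2.euler k C' M = Curv2.euler k C ((Scheme.Modules.pullback e).obj M) := fun M hM => by
    haveI := hM
    haveI := Groth.L07.DiffOpSheaf.isIso_unit_of_isIso e M
    refine (Groth.L03.Euler.euler_iso (asIso ((Scheme.Modules.pullbackPushforwardAdjunction e).unit.app M))).trans ?_
    exact Groth.L03.Euler.euler_push e _ (Groth.L16.AffineBC.isQCoh_pullback _ _) he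
  haveI : Coh.IsQCoh L := Groth.L21.Extend.isQCoh_of_isInvertible hL
  have h2 : Coh.IsQCoh (Coh.structureModule C') :=
    Groth.L21.Extend.isQCoh_of_isInvertible (Groth.L18.Ample.isInvertible_structureModule C')
  rw [Curv2.deg, Curv2.deg, h1 L inferInstance, h1 _ h2,
    Groth.L03.Euler.euler_iso (Groth.L29.LocFree.pullbackUnitIso e)]

/-- Degrees on the integral subschemes given by ideal sheaves suffice. -/
theorem nef_of_ideals {L : X.Modules} (hL : PicF.IsInvertible L)
    (h : ∀ J : X.IdealSheafData, IsIntegral J.subscheme → topologicalKrullDim J.subscheme = 1 →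
      0 ≤ @Curv2.deg k _ J.subscheme ⟨J.subschemeι ≫ (X ↘ Spec (CommRingCat.of k))⟩
        ((Scheme.Modules.pullback J.subschemeι).obj L) 1) : Nef k L := by
  intro C j _ hC hdim
  haveI := hC
  letI : C.Over (Spec (CommRingCat.of k)) := ⟨j ≫ (X ↘ Spec (CommRingCat.of k))⟩
  let J := j.ker
  letI : J.subscheme.Over (Spec (CommRingCat.of k)) := ⟨J.subschemeι ≫ (X ↘ Spec (CommRingCat.of k))⟩
  let e : C ⟶ J.subscheme := IsClosedImmersion.lift J.subschemeι j (J.ker_subschemeι).le
  haveI : IsIso e := IsClosedImmersion.isIso_lift J.subschemeι j J.ker_subschemeι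
  have he : e ≫ J.subschemeι = j := IsClosedImmersion.lift_fac _ _ _
  haveI : Nonempty J.subscheme := ⟨e (genericPoint C)⟩
  haveI : IsIntegral J.subscheme := isIntegral_of_isOpenImmersion (inv e)
  haveI : X.IsSeparated := ⟨by
    rw [← terminal.comp_from (X ↘ Spec (CommRingCat.of k))]; infer_instance⟩
  haveI : J.subscheme.IsSeparated := ⟨by rw [← terminal.comp_from J.subschemeι]; infer_instance⟩
  have hdim' : topologicalKrullDim J.subscheme = 1 :=
    ((Scheme.Hom.homeomorph e).isHomeomorph.topologicalKrullDim_eq _).symm.trans hdim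
  have h1 := deg_pullback_of_isIso k e
    (show e ≫ (J.subschemeι ≫ (X ↘ Spec (CommRingCat.of k))) = j ≫ (X ↘ Spec (CommRingCat.of k)) by
      rw [← Category.assoc, he])
    (Groth.L18.Ample.isInvertible_pullback J.subschemeι hL)
  have h2 : Curv2.deg k C ((Scheme.Modules.pullback j).obj L) 1 =
      Curv2.deg k C ((Scheme.Modules.pullback e).obj ((Scheme.Modules.pullback J.subschemeι).obj L)) 1 :=
    Groth.L21.RR.deg_congr k (((Scheme.Modules.pullbackComp e J.subschemeι).app L ≪≫
      (Scheme.Modules.pullbackCongr he).app L).symm) 1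
  rw [show @Curv2.deg k _ C ⟨j ≫ (X ↘ Spec (CommRingCat.of k))⟩ ((Scheme.Modules.pullback j).obj L) 1 =
    Curv2.deg k C ((Scheme.Modules.pullback j).obj L) 1 from rfl, h2, h1]
  exact h J inferInstance hdim'

end Groth.L12.GenusZero
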