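import Groth.Agent.L12.GenusZero.Deg
import Groth.Agent.L08.Cube.Inverse
import Groth.Agent.L16.HomSh.Adjunction

/-!
# Quotients of nef modules on a one-dimensional scheme with `H¹(O) = 0`

Every nonzero coherent quotient of a nef invertible module has a nonzero section, which drives an induction on the
dimension of the space of sections.
-/

set_option autoImplicit false
set_option linter.style.haveILetI false
set_option linter.unusedSectionVars false
set_option backward.isDefEq.respectTransparency false
set_option backward.isDefEq.respectTransparency.types false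

universe u

open CategoryTheory CategoryTheory.Limits AlgebraicGeometry TopologicalSpace Opposite

noncomputable section

namespace Groth.L12.GenusZero

open Groth.L16.CohLinear (hmap hmap_comp exact_hmap_hmap exact_hmap_delta)
open Groth.L21.RR (st st_comp e0 e0_hmap oneSec h hk euler_eq)
open Groth.L00.Tensor (tensorIso tensorComm tensorAssoc tensorLeftF tensorUnitRight)

variable {X : Scheme.{u}} (k : Type u) [Field k] [X.Over (Spec (CommRingCat.of k))]
  [IsProper (X ↘ Spec (CommRingCat.of k))] (hd : topologicalKrullDim X ≤ 1)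
  (h1 : Subsingleton (Coh.HH X (Coh.structureModule X) 1)) {L : X.Modules} (hL : PicF.IsInvertible L)
  (hnef : Nef k L)

include k hd in
theorem rightExact_of_dim : RightExact X := fun M _ =>
  haveI := Groth.L21.RR.isNoetherian_of_proper (X := X) k
  Groth.L21.RR.subsingleton_HH_two hd M 0

/-- A nonzero morphism out of the structure sheaf gives a nonzero class. -/
theorem class_ne_zero {Q : X.Modules} {s : Coh.structureModule X ⟶ Q} (hs : s ≠ 0) :
    (e0 Q).symm (s.app ⊤ (oneSec X)) ≠ 0 := fun h => hs (Groth.L21.RR.hom_ext_one (by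
  have h' := congrArg (e0 Q) h
  rw [AddEquiv.apply_symm_apply, map_zero] at h'
  exact h'.trans rfl))

include hd h1 hL hnef in
theorem h0_pos {Q : X.Modules} (hQ : Coh.IsCoh Q) (p : L ⟶ Q) [Epi p] (hne : ¬ IsZero Q) :
    0 < h k 0 Q := by
  haveI := Groth.L21.RR.isNoetherian_of_proper (X := X) k
  haveI := h1
  obtain ⟨N, hN, ⟨e⟩⟩ := Groth.L08.Cube.exists_inverse hL
  let R := CohB1.tensorMod N Q
  have hR : Coh.IsCoh R := Groth.L22.CurveDeg.isCoh_tensor_locFree
    (Groth.L12.FinCov.isFinLocFreeOfRank_one_of_isInvertible hN) hQ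
  haveI : (tensorLeftF N).IsLeftAdjoint := (Groth.L16.HomSh.tensorHomAdj N).isLeftAdjoint
  haveI : Epi ((tensorLeftF N).map p) := inferInstance
  let q : Coh.structureModule X ⟶ R := (tensorComm N L ≪≫ e).inv ≫ (tensorLeftF N).map p
  haveI : Epi q := epi_comp' inferInstance inferInstance
  haveI : Subsingleton (Coh.HH X R 1) := subsingleton_of_epi (rightExact_of_dim k hd) q
    Groth.L16.CohClosedPush.isCoh_structure.1 hR.1
  have i : CohB1.tensorMod L R ≅ Q :=
    (tensorAssoc L N Q).symm ≪≫ tensorIso e (Iso.refl Q) ≪≫ tensorComm _ _ ≪≫ tensorUnitRight Q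
  have hR0 : 0 < h k 0 R := by
    haveI := Groth.L21.RR.finite_HH' k hR 0
    by_contra h0
    have hs : Subsingleton (Coh.HH X R 0) := Module.finrank_zero_iff.1 (by omega : h k 0 R = 0)
    have hq : q = 0 := by
      by_contra hq
      exact class_ne_zero hq (hs.elim _ _)
    refine hne ?_
    have hz : IsZero R := by
      haveI : Epi (0 : Coh.structureModule X ⟶ R) := hq ▸ inferInstance
      exact IsZero.of_epi_zero (Coh.structureModule X) R
    haveI : (tensorLeftF L).IsLeftAdjoint := (Groth.L16.HomSh.tensorHomAdj L).isLeftAdjoint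
    exact (Functor.map_isZero (tensorLeftF L) hz).of_iso i.symm
  have hphi := phi_nonneg k hd hL hnef hR
  rw [Groth.L22.CurveDeg.phi, Groth.L03.Euler.euler_iso i, euler_eq k hd, euler_eq k hd,
    Groth.L21.RR.h_eq_zero_of_subsingleton k (M := R) (n := 1) inferInstance] at hphi
  push_cast at hphi
  omega

include hd h1 hL hnef in
/-- Quotients of a nef module have no first cohomology and are generated by their sections. -/
theorem quotient_spec : ∀ {Q : X.Modules} (_ : Coh.IsCoh Q) (p : L ⟶ Q) [Epi p],
    Subsingleton (Coh.HH X Q 1) ∧ ∀ x : X, Nontrivial (Q.presheaf.stalk x) →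
      ∃ φ : Coh.structureModule X ⟶ Q, Function.Surjective (st φ x) := by
  intro Q
  induction hn : h k 0 Q using Nat.strong_induction_on generalizing Q with
  | _ n ih =>
  intro hQ p _
  haveI := Groth.L21.RR.isNoetherian_of_proper (X := X) k
  have h2 := rightExact_of_dim (X := X) k hd
  by_cases hz : IsZero Q
  · refine ⟨?_, fun x hx => ?_⟩
    · refine subsingleton_of_forall_eq 0 fun y => ?_
      rw [← Groth.L16.CohLinear.hmap_id 1 y, hz.eq_of_src (𝟙 Q) 0, Groth.L21.RR.hmap_zero]
    · exact absurd ((Groth.L21.Mod.isZero_iff_stalk_subsingleton Q).1 hz x)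
        (not_subsingleton_iff_nontrivial.2 hx)
  have hpos := h0_pos k hd h1 hL hnef hQ p hz
  haveI := Groth.L21.RR.finite_HH' k hQ 0
  haveI : Nontrivial (Coh.HH X Q 0) := Module.nontrivial_of_finrank_pos hpos
  obtain ⟨s, hs⟩ := Groth.L21.RR.exists_hom_ne_zero (L := Q)
  have hO : Coh.IsCoh (Coh.structureModule X) := Groth.L16.CohClosedPush.isCoh_structure
  haveI : Coh.IsQCoh Q := hQ.1
  haveI := h1
  haveI : Subsingleton (Coh.HH X (Abelian.image s) 1) :=
    subsingleton_of_epi h2 (Abelian.factorThruImage s) hO.1 (isQCoh_image s hO.1 hQ.1)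
  have hS := Groth.L16.Devissage.shortExact_image_cokernel s
  have hQ' : Coh.IsCoh (cokernel s) := (Groth.L16.CohKernel.isCoh_kernel_cokernel hO hQ s).2
  have hlt : h k 0 (cokernel s) < n := by
    haveI := Groth.L21.RR.finite_HH' k hQ' 0
    let g := hk k (cokernel.π s) 0
    have hg : Function.Surjective g := fun y =>
      (exact_hmap_delta hS 0 y).1 (Subsingleton.elim _ _)
    have hker : (e0 Q).symm (s.app ⊤ (oneSec X)) ∈ LinearMap.ker g := by
      rw [LinearMap.mem_ker]
      refine (e0 (cokernel s)).injective ?_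
      rw [map_zero]
      refine (e0_hmap (cokernel.π s) _).trans ?_
      rw [AddEquiv.apply_symm_apply, ← ConcreteCategory.comp_apply]
      have h0 : (s ≫ cokernel.π s).app ⊤ = 0 := by rw [cokernel.condition]; rfl
      exact ConcreteCategory.congr_hom h0 (oneSec X)
    haveI : Nontrivial (LinearMap.ker g) :=
      ⟨⟨_, hker⟩, 0, fun hh => class_ne_zero hs (congrArg Subtype.val hh)⟩
    have h3 := LinearMap.finrank_range_add_finrank_ker g
    rw [LinearMap.range_eq_top.2 hg, finrank_top] at h3
    have h4 : 0 < Module.finrank k (LinearMap.ker g) := Module.finrank_pos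
    simp only [h] at hn ⊢
    omega
  haveI : Epi (p ≫ cokernel.π s) := epi_comp' inferInstance inferInstance
  obtain ⟨ih₁, ih₂⟩ := ih _ hlt rfl hQ' (p ≫ cokernel.π s)
  haveI := ih₁
  refine ⟨subsingleton_of_shortExact hS, fun x hx => ?_⟩
  by_cases hsx : Function.Surjective (st s x)
  · exact ⟨s, hsx⟩
  haveI := nontrivial_cokernel s hsx
  obtain ⟨φ', hφ'⟩ := ih₂ x inferInstance
  obtain ⟨φ, rfl⟩ := exists_lift hS φ'
  obtain ⟨g, hg⟩ := exists_generator hL p x
  exact ⟨φ, surjective_st_of_quotient φ (cokernel.π s) g hg (surjective_st_of_epi _ x) hφ'⟩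

end Groth.L12.GenusZero
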