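import Groth.Agent.L12.GenusZero.Field
import Groth.Agent.L19.VanishFibre.Noetherian
import Groth.Agent.L16.SchSupport
import Groth.Agent.L17.AffinePush
import Groth.Agent.L18.AffineApps
import Groth.Agent.L12.VBLift.Small
import Groth.Agent.L22.SchemeDim
import Groth.Agent.L17.Approx.Extend

/-!
# Nef modules on a proper scheme over a Noetherian ring with fibres of dimension at most one
-/

set_option autoImplicit false
set_option linter.style.haveILetI false
set_option linter.unusedSectionVars false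
set_option backward.isDefEq.respectTransparency false
set_option backward.isDefEq.respectTransparency.types false

universe u

open CategoryTheory CategoryTheory.Limits AlgebraicGeometry TopologicalSpace Opposite

noncomputable section

namespace Groth.L12.GenusZero

attribute [local instance] CategoryTheory.Abelian.hasFiniteBiproducts

open Formal (smulMod smulModΓ)
open Groth.L16.CohLinear (hmap hmap_comp hmap_id exact_hmap_hmap exact_hmap_delta)
open Groth.L21.RR (st st_comp st_germ oneSec)
open Groth.L17.ClosedPush (c₀ c₀_bijective)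

/-- Pushing forward along a closed immersion keeps surjectivity on stalks. -/
theorem surjective_st_push {Z Y : Scheme.{u}} (i : Z ⟶ Y) [IsClosedImmersion i] {M N : Z.Modules} (φ : M ⟶ N)
    (z : Z) (h : Function.Surjective (st φ z)) :
    Function.Surjective (st ((Scheme.Modules.pushforward i).map φ) (i z)) := fun w => by
  have hnat : ∀ p, c₀ i N z (st ((Scheme.Modules.pushforward i).map φ) (i z) p) = st φ z (c₀ i M z p) := by
    intro p
    obtain ⟨U, hU, m, rfl⟩ := TopCat.Presheaf.exists_germ_eq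
      (F := ((Scheme.Modules.pushforward i).obj M).presheaf) (x := i z) p
    rw [st_germ ((Scheme.Modules.pushforward i).map φ) hU m]
    refine (Groth.L17.ClosedPush.c₀_germ i N z hU _).trans ?_
    refine Eq.trans ?_ (congrArg (st φ z) (Groth.L17.ClosedPush.c₀_germ i M z hU m)).symm
    exact (st_germ φ (show z ∈ i ⁻¹ᵁ U from hU) m).symm
  obtain ⟨v, hv⟩ := h (c₀ i N z w)
  obtain ⟨p, rfl⟩ := (c₀_bijective i M z).2 v
  exact ⟨p, (c₀_bijective i N z).1 ((hnat p).trans hv)⟩

/-- Two morphisms into an affine scheme from the same map on functions. -/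
theorem eq_of_toGlobal {Z : Scheme.{u}} {A : Type u} [CommRing A] (a b : Z ⟶ Spec (CommRingCat.of A))
    (h : Coh.toGlobal a = Coh.toGlobal b) : a = b := by
  refine ext_of_isAffine ?_
  ext x
  obtain ⟨y, rfl⟩ := (ConcreteCategory.bijective_of_isIso (Scheme.ΓSpecIso (CommRingCat.of A)).inv).2 x
  exact RingHom.congr_fun h y

theorem exists_factor_quotient {Z : Scheme.{u}} {A : Type u} [CommRing A] (h : Z ⟶ Spec (CommRingCat.of A))
    (m : Ideal A) (hm : ∀ a ∈ m, Coh.toGlobal h a = 0) :
    ∃ t : Z ⟶ Spec (CommRingCat.of (A ⧸ m)), t ≫ Spec.map (CommRingCat.ofHom (Ideal.Quotient.mk m)) = h := by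
  let ρ : A ⧸ m →+* Γ(Z, ⊤) := Ideal.Quotient.lift m (Coh.toGlobal h) hm
  refine ⟨Z.toSpecΓ ≫ Spec.map (CommRingCat.ofHom ρ), ?_⟩
  rw [Category.assoc, ← Spec.map_comp, ← CommRingCat.ofHom_comp, Ideal.Quotient.lift_comp_mk]
  refine eq_of_toGlobal _ _ (RingHom.ext fun a => ?_)
  show (Z.toSpecΓ ≫ Spec.map (CommRingCat.ofHom (Coh.toGlobal h))).appTop
    ((Scheme.ΓSpecIso (CommRingCat.of A)).inv a) = Coh.toGlobal h a
  rw [Scheme.Hom.comp_appTop, ConcreteCategory.comp_apply, ← ConcreteCategory.comp_apply _ (Spec.map _).appTop,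
    ← Scheme.ΓSpecIso_inv_naturality, ConcreteCategory.comp_apply, Scheme.toSpecΓ_appTop,
    Iso.inv_hom_id_apply]
  rfl

variable {X : Scheme.{u}} {A : Type u} [CommRing A] [IsNoetherianRing A] [X.Over (Spec (CommRingCat.of A))]
  [IsProper (X ↘ Spec (CommRingCat.of A))]

/-- Non-negative degree on the integral curves in closed fibres. -/
def NefOver (A : Type u) [CommRing A] [X.Over (Spec (CommRingCat.of A))] (L : X.Modules) : Prop :=
  ∀ (K : Type u) [Field K] (q : A →+* K), Function.Surjective q →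
    ∀ (C : Scheme.{u}) (j : C ⟶ X) [IsClosedImmersion j] (t : C ⟶ Spec (CommRingCat.of K)),
      IsIntegral C → topologicalKrullDim C = 1 →
      t ≫ Spec.map (CommRingCat.ofHom q) = j ≫ (X ↘ Spec (CommRingCat.of A)) →
      0 ≤ @Curv2.deg K _ C ⟨t⟩ ((Scheme.Modules.pullback j).obj L) 1

theorem smulMod_add (M : X.Modules) (a b : A) : smulMod A M (a + b) = smulMod A M a + smulMod A M b := by
  refine Scheme.Modules.hom_ext _ _ fun U => ?_
  ext m
  show (smulModΓ M _).app U m = (smulModΓ M _).app U m + (smulModΓ M _).app U m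
  rw [Groth.L16.Rees.smulModΓ_app, Groth.L16.Rees.smulModΓ_app, Groth.L16.Rees.smulModΓ_app, map_add]
  exact (congrArg (fun c : Γ(X, U) => c • m) (map_add (Coh.resTop X (op U)) _ _)).trans (add_smul _ _ m)

include A in
theorem isNoetherian_of_proper_over : IsNoetherian X := by
  haveI : IsNoetherianRing (CommRingCat.of A) := ‹IsNoetherianRing A›
  haveI : IsLocallyNoetherian X := LocallyOfFiniteType.isLocallyNoetherian (X ↘ Spec (CommRingCat.of A))
  haveI : CompactSpace X := QuasiCompact.compactSpace_of_compactSpace (X ↘ Spec (CommRingCat.of A))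
  exact ⟨⟩

variable (hfib : ∀ y, topologicalKrullDim ↥((X ↘ Spec (CommRingCat.of A)).fiber y) ≤ 1)

include hfib in
theorem rightExact_over : RightExact X := fun M hM =>
  haveI : IsNoetherianRing (CommRingCat.of A) := ‹IsNoetherianRing A›
  haveI := hM
  Groth.L19.VanishFibre.subsingleton_HH_of_fibre_dim_le (R := CommRingCat.of A) (X ↘ Spec (CommRingCat.of A))
    (d := 1) hfib M one_lt_two

variable (h1 : Subsingleton (Coh.HH X (Coh.structureModule X) 1)) {L : X.Modules} (hL : PicF.IsInvertible L)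
  (hnef : NefOver A L)

include hfib h1 hL hnef in
/-- The reduction of a nef module modulo a maximal ideal: no first cohomology, and generated by sections. -/
theorem exists_reduction (m : Ideal A) [m.IsMaximal] :
    ∃ (r : ℕ) (g : ULift.{u} (Fin r) → A) (Q : X.Modules) (π : L ⟶ Q) (w : biproduct.desc (fun a => smulMod A L (g a)) ≫ π = 0),
      (∀ a, g a ∈ m) ∧ Coh.IsQCoh Q ∧ (ShortComplex.mk _ π w).Exact ∧ Epi π ∧ Subsingleton (Coh.HH X Q 1) ∧
      ∀ x : X, Nontrivial (Q.presheaf.stalk x) →
        ∃ φ : Coh.structureModule X ⟶ Q, Function.Surjective (st φ x) := by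
  classical
  haveI := isNoetherian_of_proper_over (X := X) (A := A)
  haveI := h1
  have h2 := rightExact_over hfib
  haveI : Coh.IsQCoh L := Groth.L21.Extend.isQCoh_of_isInvertible hL
  obtain ⟨r, g', hg'⟩ := Submodule.fg_iff_exists_fin_generating_family.1 (IsNoetherian.noetherian m)
  let g : ULift.{u} (Fin r) → A := fun a => g' a.down
  have hgm : ∀ a, g a ∈ m := fun a => hg' ▸ Submodule.subset_span ⟨a.down, rfl⟩
  let θ := biproduct.desc fun a => smulMod A L (g a)
  have hQc : Coh.IsQCoh (cokernel θ) :=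
    (Groth.L00.AlgQCoh.isQCoh_kernel_cokernel θ (isQCoh_biproduct _ fun _ => inferInstance) inferInstance).2
  have hLc : Coh.IsCoh L := Groth.L16.ProperFinite.isCoh_of_isInvertible hL
  have hQ : Coh.IsCoh (cokernel θ) :=
    ⟨hQc, Groth.L17.Approx.isFT_of_epi (cokernel.π θ) hLc.2⟩
  have hkill : ∀ a ∈ m, smulMod A (cokernel θ) a = 0 := by
    intro a ha
    rw [← cancel_epi (cokernel.π θ), ← Groth.L16.Rees.smulMod_naturality, comp_zero]
    rw [← hg'] at ha
    induction ha using Submodule.span_induction with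
    | mem y hy =>
      obtain ⟨b, rfl⟩ := hy
      rw [show smulMod A L (g' b) = biproduct.ι (fun _ : ULift.{u} (Fin r) => L) ⟨b⟩ ≫ θ from
        (biproduct.ι_desc (fun a : ULift.{u} (Fin r) => smulMod A L (g a)) ⟨b⟩).symm, Category.assoc, cokernel.condition, comp_zero]
    | zero => rw [Groth.L16.Rees.smulMod_zero, zero_comp]
    | add y z _ _ hy hz => rw [smulMod_add, Preadditive.add_comp, hy, hz, add_zero]
    | smul c y _ hy =>
      rw [smul_eq_mul, mul_comm, Groth.L16.Rees.smulMod_mul, Category.assoc, hy, comp_zero]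
  let I := Groth.L16.SchSupport.annIdeal hQ
  let i := I.subschemeι
  have hzero : ∀ a ∈ m, Coh.toGlobal (i ≫ (X ↘ Spec (CommRingCat.of A))) a = 0 := by
    intro a ha
    show (i ≫ (X ↘ Spec (CommRingCat.of A))).appTop ((Scheme.ΓSpecIso (CommRingCat.of A)).inv a) = 0
    rw [Scheme.Hom.comp_appTop, ConcreteCategory.comp_apply]
    refine I.subscheme.sheaf.eq_of_locally_eq' (fun U : X.affineOpens => i ⁻¹ᵁ U.1) ⊤ (fun U => homOfLE le_top)
      (fun z _ => ?_) _ _ fun U => ?_
    · obtain ⟨_, ⟨U, hU, rfl⟩, hzU, -⟩ :=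
        X.isBasis_affineOpens.exists_subset_of_mem_open (Set.mem_univ (i z)) isOpen_univ
      exact Opens.mem_iSup.2 ⟨⟨U, hU⟩, hzU⟩
    rw [map_zero]
    refine Eq.trans (ConcreteCategory.congr_hom (i.naturality (homOfLE (le_top : U.1 ≤ ⊤)).op)
      (Coh.toGlobal (X ↘ Spec (CommRingCat.of A)) a)).symm ?_
    show (i.app U.1).hom (X.presheaf.map (homOfLE (le_top : U.1 ≤ ⊤)).op
      (Coh.toGlobal (X ↘ Spec (CommRingCat.of A)) a)) = 0
    rw [← RingHom.mem_ker, ← Scheme.Hom.ker_apply, I.ker_subschemeι, Groth.L16.SchSupport.annIdeal_ideal,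
      Module.mem_annihilator]
    intro v
    have h := congrArg (fun φ : cokernel θ ⟶ cokernel θ => φ.app U.1 v) (hkill a ha)
    exact h
  obtain ⟨t, ht⟩ := exists_factor_quotient (i ≫ (X ↘ Spec (CommRingCat.of A))) m hzero
  letI := Ideal.Quotient.field m
  letI : I.subscheme.Over (Spec (CommRingCat.of (A ⧸ m))) := ⟨t⟩
  haveI : IsProper (I.subscheme ↘ Spec (CommRingCat.of (A ⧸ m))) := by
    haveI : IsProper (t ≫ Spec.map (CommRingCat.ofHom (Ideal.Quotient.mk m))) := by rw [ht]; infer_instance
    exact IsProper.of_comp t (Spec.map (CommRingCat.ofHom (Ideal.Quotient.mk m)))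
  have hd : topologicalKrullDim I.subscheme ≤ 1 := by
    let f := X ↘ Spec (CommRingCat.of A)
    let y := Spec.map (CommRingCat.ofHom (Ideal.Quotient.mk m)) (⊥ : PrimeSpectrum (A ⧸ m))
    have hsub : Set.range i ⊆ f ⁻¹' {y} := by
      rintro _ ⟨z, rfl⟩
      show f (i z) = y
      rw [← Scheme.Hom.comp_apply, ← ht, Scheme.Hom.comp_apply]
      exact congrArg _ (Subsingleton.elim (α := PrimeSpectrum (A ⧸ m)) _ _)
    rw [← Groth.L22.SchemeDim.topologicalKrullDim_eq_of_isEmbedding i.isEmbedding rfl]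
    refine le_trans ((Topology.IsEmbedding.inclusion hsub).isInducing.topologicalKrullDim_le) ?_
    rw [Groth.L22.SchemeDim.topologicalKrullDim_eq_of_isEmbedding (f.fiberι y).isEmbedding (f.range_fiberι y)]
    exact hfib y
  haveI : IsLocallyNoetherian I.subscheme := LocallyOfFiniteType.isLocallyNoetherian i
  have hO₀ : Subsingleton (Coh.HH I.subscheme (Coh.structureModule I.subscheme) 1) := by
    haveI := Groth.L12.VBLift.epi_unitToPush i
    haveI := subsingleton_of_epi h2 (ClSub.unitToPush i) Groth.L16.CohClosedPush.isCoh_structure.1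
      (Groth.L16.CohClosedPush.isCoh_push i Groth.L16.CohClosedPush.isCoh_structure).1
    obtain ⟨e⟩ := Groth.L17.nonempty_HH_push_of_isClosedImmersion i (Coh.structureModule I.subscheme) 1
    exact e.toEquiv.subsingleton
  have hnef₀ : Nef (A ⧸ m) ((Scheme.Modules.pullback i).obj L) := by
    intro C j _ hC hdim
    have h := hnef (A ⧸ m) (Ideal.Quotient.mk m) Ideal.Quotient.mk_surjective C (j ≫ i) (j ≫ t) hC hdim
      (by rw [Category.assoc, ht, Category.assoc])
    letI : C.Over (Spec (CommRingCat.of (A ⧸ m))) := ⟨j ≫ t⟩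
    rw [show @Curv2.deg (A ⧸ m) _ C ⟨j ≫ t⟩ ((Scheme.Modules.pullback (j ≫ i)).obj L) 1 =
      Curv2.deg (A ⧸ m) C ((Scheme.Modules.pullback (j ≫ i)).obj L) 1 from rfl,
      Groth.L21.RR.deg_congr (A ⧸ m) ((Scheme.Modules.pullbackComp j i).app L).symm 1] at h
    exact h
  let p := (Scheme.Modules.pullback i).map (cokernel.π θ)
  haveI : (Scheme.Modules.pullback i).IsLeftAdjoint :=
    (Scheme.Modules.pullbackPushforwardAdjunction i).isLeftAdjoint
  haveI : Epi p := inferInstance
  obtain ⟨hG1, hGgen⟩ := quotient_spec (A ⧸ m) hd hO₀ (Groth.L18.Ample.isInvertible_pullback i hL) hnef₀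
    (Groth.L16.AffineBC.isCoh_pullback i hQ) p
  haveI := Groth.L16.SchSupport.isIso_unit_annIdeal hQ
  let η : cokernel θ ≅ (Scheme.Modules.pushforward i).obj ((Scheme.Modules.pullback i).obj (cokernel θ)) :=
    asIso ((Scheme.Modules.pullbackPushforwardAdjunction i).unit.app (cokernel θ))
  refine ⟨r, g, cokernel θ, cokernel.π θ, cokernel.condition θ, hgm, hQc, ShortComplex.exact_cokernel θ,
    inferInstance, ?_, fun x hx => ?_⟩
  · haveI := hG1
    obtain ⟨e⟩ := Groth.L17.nonempty_HH_push_of_isClosedImmersion i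
      ((Scheme.Modules.pullback i).obj (cokernel θ)) 1
    haveI : Subsingleton (Coh.HH X ((Coh.push i).obj ((Scheme.Modules.pullback i).obj (cokernel θ))) 1) :=
      e.symm.toEquiv.subsingleton
    exact Function.Injective.subsingleton (f := hmap η.hom 1) fun a b hab => by
      have := congrArg (hmap η.inv 1) hab
      rwa [← hmap_comp, ← hmap_comp, η.hom_inv_id, hmap_id, hmap_id] at this
  · have hxs : x ∈ CohB1.support (cokernel θ) := not_subsingleton_iff_nontrivial.2 hx
    obtain ⟨z, rfl⟩ : x ∈ Set.range i := by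
      rw [Scheme.IdealSheafData.range_subschemeι, Groth.L16.SchSupport.coe_support_annIdeal]
      exact hxs
    haveI hne : Nontrivial (((Scheme.Modules.pullback i).obj (cokernel θ)).presheaf.stalk z) := by
      rw [← not_subsingleton_iff_nontrivial]
      intro hs
      haveI : Nontrivial (((Scheme.Modules.pushforward i).obj
          ((Scheme.Modules.pullback i).obj (cokernel θ))).presheaf.stalk (i z)) :=
        nontrivial_of_surjective η.inv (surjective_st_of_epi η.inv (i z))
      exact not_subsingleton_iff_nontrivial.2 ‹_›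
        (@Function.Injective.subsingleton _ _ _ (c₀_bijective i ((Scheme.Modules.pullback i).obj (cokernel θ)) z).1 hs)
    obtain ⟨φ, hφ⟩ := hGgen z hne
    haveI := Groth.L12.VBLift.epi_unitToPush i
    refine ⟨ClSub.unitToPush i ≫ (Scheme.Modules.pushforward i).map φ ≫ η.inv, ?_⟩
    intro v
    obtain ⟨v₁, rfl⟩ := surjective_st_of_epi η.inv (i z) v
    obtain ⟨v₂, rfl⟩ := surjective_st_push i φ z hφ v₁
    obtain ⟨v₃, rfl⟩ := surjective_st_of_epi (ClSub.unitToPush i) (i z) v₂
    exact ⟨v₃, by rw [st_comp, st_comp]⟩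

include hfib h1 hL hnef in
/-- A nef invertible module has no first cohomology. -/
theorem subsingleton_h1 : Subsingleton (Coh.HH X L 1) := by
  classical
  haveI := isNoetherian_of_proper_over (X := X) (A := A)
  haveI : Module.Finite A (Coh.HH X L 1) :=
    Groth.L16.ProperFinite.finite_HH A (Groth.L16.ProperFinite.isCoh_of_isInvertible hL) 1
  have hm : ∀ m : Ideal A, m.IsMaximal → (⊤ : Submodule A (Coh.HH X L 1)) ≤ m • ⊤ := by
    intro m hm x _
    haveI : Coh.IsQCoh L := Groth.L21.Extend.isQCoh_of_isInvertible hL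
    obtain ⟨r, g, Q, π, w, hg, hQ', hex, hπ, hQ1, -⟩ := exists_reduction hfib h1 hL hnef m
    let θ := biproduct.desc fun a => smulMod A L (g a)
    let S := ShortComplex.mk (kernel.ι π) π (kernel.condition π)
    have hS : S.ShortExact :=
      { exact := ShortComplex.exact_of_f_is_kernel _ (kernelIsKernel π), epi_g := hπ }
    obtain ⟨y, rfl⟩ := (exact_hmap_hmap hS 1 x).1 (hQ1.elim _ _)
    haveI : Epi (kernel.lift π θ w) := hex.epi_kernelLift
    have hQc : Coh.IsQCoh (kernel π) := Groth.L16.CohSupport.isCoh_kernel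
      (Groth.L16.ProperFinite.isCoh_of_isInvertible hL) π |>.1
    obtain ⟨z, rfl⟩ := surjective_hmap_one_of_epi (rightExact_over hfib) (kernel.lift π θ w)
      (isQCoh_biproduct _ fun _ => inferInstance) hQc y
    show hmap (kernel.ι π) 1 (hmap (kernel.lift π θ w) 1 z) ∈ _
    rw [← hmap_comp, kernel.lift_ι, hh_biproduct _ 1 z, map_sum]
    refine Submodule.sum_mem _ fun a _ => ?_
    rw [← hmap_comp, biproduct.ι_desc, Groth.L16.Rees.hmap_smulMod]
    exact Submodule.smul_mem_smul (hg a) trivial
  have hann : ∀ m : Ideal A, m.IsMaximal → ∃ c ∉ m, ∀ x : Coh.HH X L 1, c • x = 0 := fun m hm' => by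
    obtain ⟨c, hc1, hc⟩ := Submodule.exists_sub_one_mem_and_smul_eq_zero_of_fg_of_le_smul m
      (⊤ : Submodule A (Coh.HH X L 1)) Module.Finite.fg_top (hm m hm')
    refine ⟨c, fun hcm => hm'.ne_top ((Ideal.eq_top_iff_one m).2 ?_), fun x => hc x trivial⟩
    simpa using m.sub_mem hcm hc1
  refine subsingleton_of_forall_eq 0 fun x => ?_
  by_contra hx
  obtain ⟨m, hm', hle⟩ := Ideal.exists_le_maximal (LinearMap.ker (LinearMap.toSpanSingleton A _ x)) (by
    rw [Ideal.ne_top_iff_one, LinearMap.mem_ker, LinearMap.toSpanSingleton_apply, one_smul]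
    exact hx)
  obtain ⟨c, hcm, hc⟩ := hann m hm'
  exact hcm (hle (by rw [LinearMap.mem_ker, LinearMap.toSpanSingleton_apply]; exact hc x))

open IsLocalRing (maximalIdeal) in
include hfib h1 hL hnef in
/-- A nef invertible module is globally generated. -/
theorem exists_generating (x : X) : ∃ φ : Coh.structureModule X ⟶ L, Function.Surjective (st φ x) := by
  classical
  haveI := isNoetherian_of_proper_over (X := X) (A := A)
  obtain ⟨x₀, hx₀, hsp⟩ := Groth.L21.RR.exists_closed_specialization x
  suffices hs : ∃ φ : Coh.structureModule X ⟶ L, Function.Surjective (st φ x₀) from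
    hs.imp fun φ hφ => Groth.L21.RR.surjective_st_of_specializes hL hsp hφ
  let f := X ↘ Spec (CommRingCat.of A)
  let p : PrimeSpectrum A := f x₀
  haveI : p.asIdeal.IsMaximal := (PrimeSpectrum.isClosed_singleton_iff_isMaximal p).1 (by
    have := f.isClosedMap _ hx₀
    rwa [Set.image_singleton] at this)
  obtain ⟨r, g, Q, π, w, hg, hQ', hex, hπ, hQ1, hgen⟩ := exists_reduction hfib h1 hL hnef p.asIdeal
  let θ := biproduct.desc fun a => smulMod A L (g a)
  obtain ⟨e, he⟩ := Groth.L21.RR.exists_frame_stalk hL x₀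
  haveI : Nontrivial (Q.presheaf.stalk x₀) := by
    rw [← not_subsingleton_iff_nontrivial]
    intro hs
    have hmem : ∀ v, st θ x₀ v ∈ maximalIdeal (X.presheaf.stalk x₀) • (⊤ : Submodule (X.presheaf.stalk x₀) (L.presheaf.stalk x₀)) := by
      intro v
      have hv : v = ∑ a, st (biproduct.ι (fun _ : ULift.{u} (Fin r) => L) a) x₀
          (st (biproduct.π (fun _ : ULift.{u} (Fin r) => L) a) x₀ v) := by
        have h0 : ∑ a, biproduct.π (fun _ : ULift.{u} (Fin r) => L) a ≫ biproduct.ι (fun _ : ULift.{u} (Fin r) => L) a = 𝟙 _ :=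
          biproduct.hom_ext' _ _ fun j => by
            rw [Preadditive.comp_sum, Finset.sum_eq_single j (fun i _ hi => by
              rw [biproduct.ι_π_ne_assoc _ hi.symm, zero_comp])
              (fun h => absurd (Finset.mem_univ j) h), biproduct.ι_π_self_assoc, Category.comp_id]
        let ev := AddMonoidHom.mk' (fun q : (⨁ fun _ : ULift.{u} (Fin r) => L) ⟶ ⨁ fun _ : ULift.{u} (Fin r) => L => st q x₀ v)
          fun q q' => by simp only [st, Functor.map_add]; rfl
        have hid : ev (𝟙 _) = v := by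
          show st (𝟙 _) x₀ v = v
          simp only [st, CategoryTheory.Functor.map_id]
          rfl
        rw [← h0, map_sum] at hid
        refine hid.symm.trans (Finset.sum_congr rfl fun a _ => ?_)
        exact st_comp _ _ x₀ v
      rw [hv, map_sum]
      refine Submodule.sum_mem _ fun a _ => ?_
      rw [← st_comp, biproduct.ι_desc]
      obtain ⟨U, hU, n, hn⟩ := TopCat.Presheaf.exists_germ_eq (F := L.presheaf) (x := x₀)
        (st (biproduct.π (fun _ : ULift.{u} (Fin r) => L) a) x₀ v)
      rw [← hn, st_germ (smulMod A L (g a)) hU n]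
      show L.presheaf.germ U x₀ hU ((smulModΓ L _).app U n) ∈ _
      rw [Groth.L16.Rees.smulModΓ_app, Groth.L20.ModStalk.germ_smul]
      refine Submodule.smul_mem_smul ?_ trivial
      show X.presheaf.germ U x₀ hU (X.presheaf.map (homOfLE (le_top : U ≤ ⊤)).op (Coh.toGlobal f (g a))) ∈ _
      rw [TopCat.Presheaf.germ_res_apply, IsLocalRing.mem_maximalIdeal, mem_nonunits_iff, ← Scheme.mem_basicOpen]
      show x₀ ∉ X.basicOpen (f.appTop ((Scheme.ΓSpecIso (CommRingCat.of A)).inv (g a)))
      rw [← Scheme.preimage_basicOpen_top, basicOpen_eq_of_affine', Iso.inv_hom_id_apply]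
      exact fun h => h (hg a)
    obtain ⟨v, hv⟩ : ∃ v, st θ x₀ v = e := by
      have h := (hex.map (Groth.L00.Stk.F X x₀))
      exact (ShortComplex.moduleCat_exact_iff _).1 h e (hs.elim _ _)
    have hem : e ∈ maximalIdeal (X.presheaf.stalk x₀) • (⊤ : Submodule (X.presheaf.stalk x₀) (L.presheaf.stalk x₀)) := hv ▸ hmem v
    have hcoef : ∀ v ∈ maximalIdeal (X.presheaf.stalk x₀) • (⊤ : Submodule (X.presheaf.stalk x₀) (L.presheaf.stalk x₀)),
        ∃ c ∈ maximalIdeal (X.presheaf.stalk x₀), c • e = v := fun v hv' => by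
      refine Submodule.smul_induction_on hv' (fun c hc u _ => ?_) fun u u' hu hu' => ?_
      · obtain ⟨d, rfl⟩ := he.2 u
        exact ⟨c * d, Ideal.mul_mem_right _ _ hc, mul_smul _ _ _⟩
      · obtain ⟨c, hc, rfl⟩ := hu
        obtain ⟨c', hc', rfl⟩ := hu'
        exact ⟨c + c', add_mem hc hc', add_smul _ _ _⟩
    obtain ⟨c, hc, hce⟩ := hcoef e hem
    have hc1 : c = 1 := he.1 (hce.trans (one_smul _ e).symm)
    exact (IsLocalRing.maximalIdeal.isMaximal _).ne_top ((Ideal.eq_top_iff_one _).2 (hc1 ▸ hc))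
  obtain ⟨φ, hφ⟩ := hgen x₀ inferInstance
  have hS : (ShortComplex.mk (kernel.ι π) π (kernel.condition π)).ShortExact :=
    { exact := ShortComplex.exact_of_f_is_kernel _ (kernelIsKernel π), epi_g := hπ }
  haveI : Subsingleton (Coh.HH X (kernel π) 1) := by
    haveI : Epi (kernel.lift π θ w) := hex.epi_kernelLift
    haveI := subsingleton_h1 hfib h1 hL hnef
    haveI : Coh.IsQCoh L := Groth.L21.Extend.isQCoh_of_isInvertible hL
    haveI := subsingleton_biproduct (fun _ : ULift.{u} (Fin r) => L) fun _ => inferInstance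
    exact subsingleton_of_epi (rightExact_over hfib) (kernel.lift π θ w)
      (isQCoh_biproduct _ fun _ => inferInstance)
      (Groth.L16.CohSupport.isCoh_kernel (Groth.L16.ProperFinite.isCoh_of_isInvertible hL) π).1
  obtain ⟨ψ, rfl⟩ := exists_lift hS φ
  haveI := hπ
  exact ⟨ψ, surjective_st_of_quotient ψ π e (fun q => he.2 q) (surjective_st_of_epi _ x₀) hφ⟩

include hfib h1 hL hnef in
theorem isGloballyGenerated_of_nef : Curv2.IsGloballyGenerated L :=
  Groth.L21.RR.isGloballyGenerated_of_sections (exists_generating hfib h1 hL hnef)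

end Groth.L12.GenusZero
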