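import Groth.Agent.L12.GenusZero.Local
import Groth.Agent.L02.Canon.Pushforward
import Groth.Agent.L12.CurveFam.FibVA.Sections
import Groth.Agent.L22.CurveDeg.Maps
import Groth.Agent.L18.GenLocus
import Groth.Agent.L18.AmpleLocal

/-!
# Invertible modules trivial on the fibres, when `R¹f_*O = 0` and `f_*O = O`
-/

set_option autoImplicit false
set_option linter.style.haveILetI false
set_option linter.unusedSectionVars false
set_option backward.isDefEq.respectTransparency false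
set_option backward.isDefEq.respectTransparency.types false

universe u

open CategoryTheory CategoryTheory.Limits AlgebraicGeometry TopologicalSpace Opposite

noncomputable section

namespace Groth.L12.GenusZero

open Groth.L17.BC (fV fV_fromSpec)
open Groth.L17.BC.Classes (isPullback_fV)
open Groth.L18.Frame (rs ro rs_rs rs_smul rs_self IsFrame pull)
open Groth.L21.RR (st st_germ oneSec)

/-- Functions on a fibre are the constants when `O ⟶ f_*O` is surjective and `R¹ = 0`. -/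
theorem surjective_appTop_fiber {X Y : Scheme.{u}} (f : X ⟶ Y) [IsProper f] {V : Y.Opens} (hV : IsAffineOpen V)
    (hd : ∀ y ∈ V, topologicalKrullDim ↥(f.fiber y) ≤ 1)
    (hH1 : ∀ y ∈ V, Subsingleton (Coh.HH (f.fiber y) (Coh.structureModule (f.fiber y)) 1))
    (hs : Function.Surjective (f.app V)) {y : Y} (hy : y ∈ V) :
    Function.Surjective (Coh.toGlobal (A := Y.residueField y) (f.fiberToSpecResidueField y)) := by
  haveI := isProper_fV f hV
  let b := IsOpenImmersion.lift hV.fromSpec (Y.fromSpecResidueField y) (by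
    rw [hV.range_fromSpec, Scheme.range_fromSpecResidueField]
    exact Set.singleton_subset_iff.2 hy)
  have hb : b ≫ hV.fromSpec = Y.fromSpecResidueField y := IsOpenImmersion.lift_fac _ _ _
  have sqV := isPullback_fV f hV
  have sqF : IsPullback (f.fiberι y) (f.fiberToSpecResidueField y) f (Y.fromSpecResidueField y) :=
    IsPullback.of_hasPullback _ _
  let j := sqV.lift (f.fiberι y) (f.fiberToSpecResidueField y ≫ b) (by rw [Category.assoc, hb]; exact sqF.w)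
  have sq : IsPullback j (f.fiberToSpecResidueField y) (fV f hV) b := IsPullback.of_right
    (show IsPullback (j ≫ (f ⁻¹ᵁ V).ι) (f.fiberToSpecResidueField y) f (b ≫ hV.fromSpec) by
      rw [sqV.lift_fst, hb]; exact sqF)
    (sqV.lift_snd _ _ _) sqV
  exact (baseChange_spec (fV f hV) (fiber_dim_fV f hV hd) (subsingleton_h1_over f hV hd hH1)
    (f.fiberToSpecResidueField y) j b sq).2 (surjective_toGlobal_fV f hV hs)

/-- A section with surjective stalk at a point is a frame nearby. -/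
theorem frame_of_surjective {X : Scheme.{u}} {L : X.Modules} {U : X.Opens}
    {M : U.toScheme.Modules} (hM : PicF.IsInvertible M) (φ : Coh.structureModule U.toScheme ⟶ M)
    (ρ : M ≅ L.restrict U.ι) (σ : Γ(L, U))
    (hσ : σ = rs L U.ι_image_top.ge ((φ ≫ ρ.hom).app ⊤ (oneSec U.toScheme))) {z : U.toScheme}
    (hφ : Function.Surjective (st φ z)) :
    ∃ (W₁ : X.Opens) (e₀ : Γ(L, W₁)), U.ι z ∈ W₁ ∧ IsFrame L W₁ e₀ ∧
      ∃ h : W₁ ≤ U, IsFrame L W₁ (rs L h σ) := by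
  obtain ⟨W, e, hzW, he⟩ := Groth.L18.Frame.exists_frame hM z
  obtain ⟨a, ha⟩ := he.exists_coeff le_rfl (rs M le_top (φ.app ⊤ (oneSec U.toScheme)))
  rw [rs_self] at ha
  have hu : IsUnit (U.toScheme.presheaf.germ W z hzW a) := by
    refine (Groth.L21.RR.surjective_st_iff (Groth.L21.RR.bijective_germ_frame he hzW) φ ?_).1 hφ
    rw [Groth.L21.RR.st_one φ z hzW, ← ha, Groth.L20.ModStalk.germ_smul]
  let W₂ := U.toScheme.basicOpen a
  have hzW₂ : z ∈ W₂ := (U.toScheme.mem_basicOpen a z hzW).2 hu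
  have h1 : IsFrame M W₂ (rs M le_top (φ.app ⊤ (oneSec U.toScheme))) := by
    have h := (he.mono (U.toScheme.basicOpen_le a)).smul_unit
      (RingedSpace.isUnit_res_basicOpen U.toScheme.toRingedSpace a)
    change IsFrame M W₂ (ro (U.toScheme.basicOpen_le a) a • rs M (U.toScheme.basicOpen_le a) e) at h
    rwa [← rs_smul, ha, rs_rs] at h
  have h2 := (Groth.L18.Ample.isFrame_restrict_iff L U W₂ _).1 (Groth.L12.CurveFam.isFrame_map ρ h1)
  have hle : U.ι ''ᵁ W₂ ≤ U := (U.ι.image_mono le_top).trans U.ι_image_top.le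
  refine ⟨U.ι ''ᵁ W₂, _, ⟨z, hzW₂, rfl⟩, h2, hle, ?_⟩
  have hnat : (show Γ(L, U.ι ''ᵁ W₂) from ρ.hom.app W₂ (rs M le_top (φ.app ⊤ (oneSec U.toScheme)))) = rs L hle σ := by
    rw [hσ, rs_rs]
    exact congr($(ρ.hom.mapPresheaf.naturality (homOfLE (le_top : W₂ ≤ ⊤)).op) (φ.app ⊤ (oneSec U.toScheme)))
  rwa [← hnat]

variable {X Y : Scheme.{u}} (f : X ⟶ Y) [IsProper f] {L : X.Modules} (hL : PicF.IsInvertible L)
  (htriv : ∀ y : Y, Nonempty ((Scheme.Modules.pullback (f.fiberι y)).obj L ≅ Coh.structureModule (f.fiber y)))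

include htriv in
/-- A module trivial on the fibres has degree zero on every curve over a closed point. -/
theorem nefOver_fV {V : Y.Opens} (hV : IsAffineOpen V) :
    letI : (f ⁻¹ᵁ V).toScheme.Over (Spec (CommRingCat.of Γ(Y, V))) := ⟨fV f hV⟩
    NefOver Γ(Y, V) ((Scheme.Modules.pullback (f ⁻¹ᵁ V).ι).obj L) := by
  letI : (f ⁻¹ᵁ V).toScheme.Over (Spec (CommRingCat.of Γ(Y, V))) := ⟨fV f hV⟩
  intro K _ q _ C j _ t hC hdim ht
  haveI := isProper_fV f hV
  letI : C.Over (Spec (CommRingCat.of K)) := ⟨t⟩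
  obtain ⟨⟨y, φ⟩, hy⟩ := (Scheme.SpecToEquivOfField K Y).symm.surjective
    (Spec.map (CommRingCat.ofHom q) ≫ hV.fromSpec)
  replace hy : Spec.map φ ≫ Y.fromSpecResidueField y = Spec.map (CommRingCat.ofHom q) ≫ hV.fromSpec := hy
  let k : C ⟶ f.fiber y := pullback.lift (j ≫ (f ⁻¹ᵁ V).ι) (t ≫ Spec.map φ) (by
    rw [Category.assoc, ← fV_fromSpec f hV, Category.assoc, hy, ← Category.assoc t, ht, Category.assoc]
    rfl)
  have hk : k ≫ f.fiberι y = j ≫ (f ⁻¹ᵁ V).ι := pullback.lift_fst _ _ _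
  obtain ⟨e⟩ := htriv y
  let η : (Scheme.Modules.pullback j).obj ((Scheme.Modules.pullback (f ⁻¹ᵁ V).ι).obj L) ≅ Coh.structureModule C :=
    (Scheme.Modules.pullbackComp j (f ⁻¹ᵁ V).ι).app L ≪≫ (Scheme.Modules.pullbackCongr hk.symm).app L ≪≫
      ((Scheme.Modules.pullbackComp k (f.fiberι y)).app L).symm ≪≫ (Scheme.Modules.pullback k).mapIso e ≪≫
        Groth.L29.LocFree.pullbackUnitIso k
  haveI : IsProper (C ↘ Spec (CommRingCat.of K)) := by
    haveI : IsProper (t ≫ Spec.map (CommRingCat.ofHom q)) := by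
      rw [ht]
      change IsProper (j ≫ fV f hV)
      infer_instance
    exact IsProper.of_comp t (Spec.map (CommRingCat.ofHom q))
  exact ((Groth.L21.RR.deg_congr K η 1).trans (Groth.L22.CurveDeg.deg_structure K)).ge

variable [IsLocallyNoetherian Y] (hdim : ∀ y : Y, topologicalKrullDim ↥(f.fiber y) ≤ 1)
  (hH1 : ∀ y : Y, Subsingleton (Coh.HH (f.fiber y) (Coh.structureModule (f.fiber y)) 1))
  (hO : ∀ U : Y.Opens, IsIso (f.app U))

include hL htriv hdim hH1 hO in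
/-- Such a module is trivial over a neighbourhood of every point of the base. -/
theorem exists_frame_over (y : Y) : ∃ (V : Y.Opens) (e : Γ(L, f ⁻¹ᵁ V)), y ∈ V ∧ IsFrame L (f ⁻¹ᵁ V) e := by
  classical
  obtain ⟨_, ⟨V, hV, rfl⟩, hyV, -⟩ :=
    Y.isBasis_affineOpens.exists_subset_of_mem_open (Set.mem_univ y) isOpen_univ
  replace hV : IsAffineOpen V := hV
  have hsV : Function.Surjective (f.app V) := haveI := hO V; (ConcreteCategory.bijective_of_isIso (f.app V)).2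
  let F := f.fiber y
  let i := f.fiberι y
  obtain ⟨τ⟩ := htriv y
  let e₁ : Γ((Scheme.Modules.pullback i).obj L, ⊤) := τ.symm.hom.app ⊤ (oneSec F)
  have he₁ : IsFrame ((Scheme.Modules.pullback i).obj L) ⊤ e₁ :=
    Groth.L12.CurveFam.isFrame_map τ.symm Groth.L21.RR.isFrame_oneSec
  rcases isEmpty_or_nonempty F with hF | ⟨⟨x'⟩⟩
  · refine ⟨V ⊓ ⟨(Set.range f)ᶜ, (f.isClosedMap.isClosed_range).isOpen_compl⟩, 0, ⟨hyV, ?_⟩, fun W hW => ?_⟩
    · rintro ⟨x, hx⟩
      obtain ⟨z, -⟩ := (f.range_fiberι y).ge (show x ∈ f ⁻¹' {y} from hx)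
      exact hF.false z
    · obtain rfl : W = ⊥ := by
        ext x
        exact ⟨fun hx => ((hW hx).2 ⟨x, rfl⟩).elim, fun hx => hx.elim⟩
      haveI : Subsingleton Γ(X, (⊥ : X.Opens)) := inferInstance
      refine ⟨fun a b _ => Subsingleton.elim a b, fun m => ⟨0, ?_⟩⟩
      haveI := Module.subsingleton Γ(X, (⊥ : X.Opens)) Γ(L, (⊥ : X.Opens))
      exact Subsingleton.elim _ _
  let X₀ := (f ⁻¹ᵁ V).toScheme
  let ι := (f ⁻¹ᵁ V).ι
  haveI := isProper_fV f hV
  letI : X₀.Over (Spec (CommRingCat.of Γ(Y, V))) := ⟨fV f hV⟩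
  haveI : IsProper (X₀ ↘ Spec (CommRingCat.of Γ(Y, V))) := isProper_fV f hV
  haveI : IsNoetherianRing Γ(Y, V) := IsLocallyNoetherian.component_noetherian ⟨V, hV⟩
  let L₀ := (Scheme.Modules.pullback ι).obj L
  let ρ : L₀ ≅ L.restrict ι := ((Scheme.Modules.restrictFunctorIsoPullback ι).app L).symm
  have hxV : i x' ∈ f ⁻¹ᵁ V := by
    show f (i x') ∈ V
    rw [show f (i x') = y from (f.range_fiberι y).le ⟨x', rfl⟩]
    exact hyV
  obtain ⟨φ, hφ⟩ := exists_generating (A := Γ(Y, V)) (X := X₀) (fiber_dim_fV f hV fun z _ => hdim z)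
    (subsingleton_h1_over f hV (fun z _ => hdim z) fun z _ => hH1 z)
    (Groth.L18.Ample.isInvertible_pullback ι hL) (nefOver_fV f htriv hV) (⟨i x', hxV⟩ : (f ⁻¹ᵁ V).toScheme)
  let σ : Γ(L, f ⁻¹ᵁ V) := rs L (f ⁻¹ᵁ V).ι_image_top.ge
    (show Γ(L, ι ''ᵁ ⊤) from (φ ≫ ρ.hom).app ⊤ (oneSec X₀))
  -- the section is a frame near `i x'`
  obtain ⟨W₁, e₀, hxW₁, he₀, hunit⟩ : ∃ (W₁ : X.Opens) (e₀ : Γ(L, W₁)), i x' ∈ W₁ ∧ IsFrame L W₁ e₀ ∧
      ∃ h : W₁ ≤ f ⁻¹ᵁ V, IsFrame L W₁ (rs L h σ) := frame_of_surjective (Groth.L18.Ample.isInvertible_pullback ι hL) φ ρ σ rfl hφ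
  obtain ⟨hW₁, hσ₁⟩ := hunit
  -- on the fibre it is a nonzero, hence invertible, multiple of the trivialization
  have hiV : (⊤ : F.Opens) ≤ i ⁻¹ᵁ (f ⁻¹ᵁ V) := fun z _ => by
    show f (i z) ∈ V
    rw [show f (i z) = y from (f.range_fiberι y).le ⟨z, rfl⟩]
    exact hyV
  obtain ⟨s, hs⟩ := he₁.exists_coeff le_rfl (rs _ hiV (pull i L (f ⁻¹ᵁ V) σ))
  rw [rs_self] at hs
  have hsu : IsUnit s := by
    obtain ⟨c, hc⟩ := surjective_appTop_fiber f hV (fun z _ => hdim z) (fun z _ => hH1 z) hsV hyV s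
    refine hc ▸ (IsUnit.map _ (Ne.isUnit (G₀ := Y.residueField y) fun h0 => ?_))
    rw [h0, map_zero] at hc
    have h2 : IsFrame ((Scheme.Modules.pullback i).obj L) (i ⁻¹ᵁ W₁)
        (rs _ le_top ((0 : Γ(F, ⊤)) • e₁)) := by
      rw [hc, hs, rs_rs]
      exact (Groth.L18.Frame.pull_rs i L hW₁ σ).symm ▸ hσ₁.pullback i L
    rw [rs_smul, ro, map_zero, zero_smul] at h2
    haveI : Nonempty ↥(i ⁻¹ᵁ W₁) := ⟨⟨x', hxW₁⟩⟩
    exact one_ne_zero ((h2 _ le_rfl).1 (show (1 : Γ(F, i ⁻¹ᵁ W₁)) • rs _ le_rfl 0 = (0 : Γ(F, i ⁻¹ᵁ W₁)) • rs _ le_rfl 0 by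
      rw [show rs ((Scheme.Modules.pullback i).obj L) (le_rfl : i ⁻¹ᵁ W₁ ≤ _) 0 = 0 from map_zero _, smul_zero, smul_zero]))
  have hall : IsFrame ((Scheme.Modules.pullback i).obj L) ⊤ (rs _ hiV (pull i L (f ⁻¹ᵁ V) σ)) :=
    hs ▸ he₁.smul_unit hsu
  -- it is a frame near every point of the fibre
  have hnear : ∀ z : F, ∃ (W : X.Opens) (h : W ≤ f ⁻¹ᵁ V), i z ∈ W ∧ IsFrame L W (rs L h σ) := fun z => by
    obtain ⟨W, e, hzW, he⟩ := Groth.L18.Frame.exists_frame hL (i z)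
    let W' := W ⊓ f ⁻¹ᵁ V
    have hzW' : i z ∈ W' := ⟨hzW, hiV (show z ∈ ⊤ from trivial)⟩
    have he' := he.mono (inf_le_left : W' ≤ W)
    obtain ⟨a, ha⟩ := he'.exists_coeff le_rfl (rs L (inf_le_right : W' ≤ f ⁻¹ᵁ V) σ)
    rw [rs_self] at ha
    have hu : IsUnit (i.app W' a) := by
      refine Groth.L18.Frame.isUnit_of_isFrame (he'.pullback i L) ?_
      rw [← Groth.L18.Frame.pull_smul i L, ha, ← Groth.L18.Frame.pull_rs i L]
      have := hall.mono (show i ⁻¹ᵁ W' ≤ ⊤ from le_top)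
      rwa [rs_rs] at this
    have hza : i z ∈ X.basicOpen a := by
      have := F.mem_basicOpen (i.app W' a) z hzW' |>.2 (hu.map _)
      rwa [← Scheme.preimage_basicOpen] at this
    refine ⟨X.basicOpen a, (X.basicOpen_le a).trans inf_le_right, hza, ?_⟩
    have h := (he'.mono (X.basicOpen_le a)).smul_unit (RingedSpace.isUnit_res_basicOpen X.toRingedSpace a)
    change IsFrame L (X.basicOpen a) (ro (X.basicOpen_le a) a • rs L (X.basicOpen_le a) (rs L inf_le_left e)) at h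
    rwa [← rs_smul, ha, rs_rs] at h
  choose W hW hzW hfr using hnear
  let U : X.Opens := ⨆ z, W z
  let C : Set Y := f '' ((U : Set X)ᶜ)
  have hC : IsClosed C := f.isClosedMap _ U.isOpen.isClosed_compl
  refine ⟨V ⊓ ⟨Cᶜ, hC.isOpen_compl⟩, rs L (f.preimage_mono inf_le_left) σ, ⟨hyV, ?_⟩, ?_⟩
  · rintro ⟨x, hx, hxy⟩
    obtain ⟨z, rfl⟩ := (f.range_fiberι y).ge (show x ∈ f ⁻¹' {y} from hxy)
    exact hx (Opens.mem_iSup.2 ⟨z, hzW z⟩)
  · refine IsFrame.of_cover (fun z => W z ⊓ f ⁻¹ᵁ (V ⊓ ⟨Cᶜ, hC.isOpen_compl⟩)) (fun z => inf_le_right)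
      (fun x hx => ?_) fun z => ?_
    · have hxU : x ∈ U := by_contra fun h => hx.2 ⟨x, h, rfl⟩
      obtain ⟨z, hz⟩ := Opens.mem_iSup.1 hxU
      exact Opens.mem_iSup.2 ⟨z, hz, hx⟩
    · have h := (hfr z).mono (inf_le_left : W z ⊓ f ⁻¹ᵁ (V ⊓ ⟨Cᶜ, hC.isOpen_compl⟩) ≤ W z)
      rw [rs_rs] at h ⊢
      exact h

include hL htriv hdim hH1 hO in
theorem isInvertible_push : PicF.IsInvertible ((Scheme.Modules.pushforward f).obj L) := by
  refine Groth.L18.GenLoc.isInvertible_of_frames fun y => ?_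
  obtain ⟨V, e, hy, he⟩ := exists_frame_over f hL htriv hdim hH1 hO y
  refine ⟨V, e, hy, fun U hU => ?_⟩
  haveI := hO U
  exact (he (f ⁻¹ᵁ U) (f.preimage_mono hU)).comp (ConcreteCategory.bijective_of_isIso (f.app U))

end Groth.L12.GenusZero
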