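import Groth.Agent.L12.GenusZero.Square

/-!
# Invertible modules with a regular section on schemes of dimension at most one
-/

set_option autoImplicit false
set_option linter.style.haveILetI false
set_option linter.unusedSectionVars false
set_option backward.isDefEq.respectTransparency false
set_option backward.isDefEq.respectTransparency.types false

universe u

open CategoryTheory CategoryTheory.Limits AlgebraicGeometry TopologicalSpace Opposite

noncomputable section

namespace Groth.L12.GenusZero

open Groth.L21.RR (st st_comp mulS surjective_st_mulS surjective_st_iff bijective_germ_frame exists_coeff_secOf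
  exists_frames st_mulS SuppClosed one bijective_smul_one)
open Groth.L18.GenLoc (tens isFrame_tens isInvertible_tensor)

variable {X : Scheme.{u}} {L : X.Modules}

/-- Non-units at a maximal point are nilpotent. -/
theorem isNilpotent_of_not_isClosed (hd : topologicalKrullDim X ≤ 1) {x : X} (hx : ¬ IsClosed ({x} : Set X))
    {b : X.presheaf.stalk x} (hb : ¬ IsUnit b) : IsNilpotent b := by
  rw [← mem_nilradical, nilradical_eq_sInf, Ideal.mem_sInf]
  intro p hp
  haveI : p.IsPrime := hp
  let z : Spec (X.presheaf.stalk x) := ⟨p, hp⟩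
  have h1 : X.fromSpecStalk x z ⤳ x := by
    have : X.fromSpecStalk x z ∈ Set.range (X.fromSpecStalk x) := ⟨z, rfl⟩
    rwa [Scheme.range_fromSpecStalk] at this
  have h2 : X.fromSpecStalk x z = X.fromSpecStalk x (IsLocalRing.closedPoint _) := by
    rw [Scheme.fromSpecStalk_closedPoint]
    exact Groth.L22.CurveDeg.eq_of_specializes_nonclosed hd hx h1
  have h3 := congrArg PrimeSpectrum.asIdeal ((X.fromSpecStalk x).isEmbedding.injective h2)
  rw [show p = _ from h3]
  exact hb

/-- A regular section generates at the maximal points. -/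
theorem surjective_st_of_mono (hd : topologicalKrullDim X ≤ 1) (hL : PicF.IsInvertible L)
    (φ : Coh.structureModule X ⟶ L) [Mono φ] {x : X} (hx : ¬ IsClosed ({x} : Set X)) :
    Function.Surjective (st φ x) := by
  obtain ⟨e, he⟩ := Groth.L21.RR.exists_frame_stalk hL x
  obtain ⟨b, hb⟩ := he.2 (st φ x (one X x))
  refine (surjective_st_iff he φ hb).2 ?_
  by_contra hu
  obtain ⟨n, hn⟩ := isNilpotent_of_not_isClosed hd hx hu
  have hinj : Function.Injective (st φ x) := (Groth.L21.Mod.mono_iff_stalk_injective φ).1 inferInstance x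
  have hpow : ∀ j, b ^ j ≠ 0 := fun j => by
    induction j with
    | zero => rw [pow_zero]; exact one_ne_zero
    | succ j ih =>
      intro h0
      refine ih ((bijective_smul_one x).1 (hinj ?_))
      show st φ x (b ^ j • one X x) = st φ x ((0 : X.presheaf.stalk x) • one X x)
      rw [map_smul, map_smul, ← hb, smul_smul, ← pow_succ, h0, zero_smul, zero_smul]
  exact hpow n hn

/-- Where multiplication by a section is surjective the section generates. -/
theorem surjective_st_of_mulS {N : X.Modules} (hN : PicF.IsInvertible N) (hL : PicF.IsInvertible L)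
    (φ : Coh.structureModule X ⟶ L) {x : X} (h : Function.Surjective (st (mulS N φ) x)) :
    Function.Surjective (st φ x) := by
  obtain ⟨W, e, ε, hx, he, hε⟩ := exists_frames hN hL x
  obtain ⟨b, hb, hb'⟩ := exists_coeff_secOf hε φ
  refine (surjective_st_iff (bijective_germ_frame hε hx) φ (hb' x hx)).2 ?_
  obtain ⟨v, hv⟩ := h ((CohB1.tensorMod N L).presheaf.germ W x hx (tens N L W e ε))
  obtain ⟨a, rfl⟩ := (bijective_germ_frame he hx).2 v
  change st (mulS N φ) x (a • N.presheaf.germ W x hx e) = _ at hv
  rw [st_mulS N φ hb hx] at hv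
  exact IsUnit.of_mul_eq_one_right _
    ((bijective_germ_frame (isFrame_tens he hε) hx).1 (hv.trans (one_smul (X.presheaf.stalk x) _).symm))

variable (k : Type u) [Field k] [X.Over (Spec (CommRingCat.of k))] [IsProper (X ↘ Spec (CommRingCat.of k))]
  (hd : topologicalKrullDim X ≤ 1) (hL : PicF.IsInvertible L) (φ : Coh.structureModule X ⟶ L) [Mono φ]

include hd hL in
theorem suppClosed_cokernel_reg {N : X.Modules} (hN : PicF.IsInvertible N) :
    SuppClosed (cokernel (mulS N φ)) :=
  Groth.L21.RR.suppClosed_cokernel_of_surjective _ fun _ hx =>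
    (show Function.Surjective (st (mulS N φ) _) from surjective_st_mulS hN hL (surjective_st_of_mono hd hL φ hx))

include k hd hL φ in
theorem subsingleton_h1_tensor_reg {N : X.Modules} (hN : PicF.IsInvertible N)
    (h : Subsingleton (Coh.HH X N 1)) : Subsingleton (Coh.HH X (CohB1.tensorMod N L) 1) :=
  haveI := Groth.L21.RR.isNoetherian_of_proper (X := X) k
  haveI := h
  (Groth.L21.RR.surjective_hmap_one_of_suppClosed hd (mulS N φ) (suppClosed_cokernel_reg hd hL φ hN)).subsingleton

/-- The powers of the section. -/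
def powSec : ∀ n : ℕ, Coh.structureModule X ⟶ CohB1.tensorPow L n
  | 0 => 𝟙 _
  | n + 1 => powSec n ≫ mulS (CohB1.tensorPow L n) φ

omit [Mono φ] in
include hL in
theorem surjective_st_powSec {x : X} (h : Function.Surjective (st φ x)) :
    ∀ n, Function.Surjective (st (powSec φ n) x)
  | 0 => surjective_st_of_epi (𝟙 (Coh.structureModule X)) x
  | n + 1 => fun v => by
    obtain ⟨v₁, rfl⟩ := surjective_st_mulS (Groth.L18.Ample.isInvertible_tensorPow hL n) hL h v
    obtain ⟨v₂, rfl⟩ := surjective_st_powSec h n v₁
    exact ⟨v₂, st_comp _ _ x v₂⟩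

include k hd hL φ in
/-- High powers are generated by sections. -/
theorem exists_generating_pow (n : ℕ) (h : Subsingleton (Coh.HH X (CohB1.tensorPow L n) 1)) (x : X) :
    ∃ ψ : Coh.structureModule X ⟶ CohB1.tensorPow L (n + 1), Function.Surjective (st ψ x) := by
  haveI := Groth.L21.RR.isNoetherian_of_proper (X := X) k
  by_cases hx : Function.Surjective (st φ x)
  · exact ⟨_, surjective_st_powSec hL φ hx (n + 1)⟩
  let N := CohB1.tensorPow L n
  have hN : PicF.IsInvertible N := Groth.L18.Ample.isInvertible_tensorPow hL n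
  have hNL : PicF.IsInvertible (CohB1.tensorMod N L) := isInvertible_tensor hN hL
  obtain ⟨e, he⟩ := Groth.L21.RR.exists_frame_stalk hNL x
  let C := cokernel (mulS N φ)
  haveI hnt : Nontrivial (C.presheaf.stalk x) :=
    nontrivial_cokernel (mulS N φ) fun hs => hx (surjective_st_of_mulS hN hL φ hs)
  obtain ⟨q, hq, -⟩ := Groth.L21.RR.exists_section_germ (suppClosed_cokernel_reg hd hL φ hN) x
    (st (cokernel.π (mulS N φ)) x e)
  obtain ⟨φ', hφ'⟩ := Groth.L21.RR.exists_hom_of_hh0 ((Groth.L21.RR.e0 C).symm q)
  rw [AddEquiv.apply_symm_apply] at hφ'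
  haveI : Coh.IsQCoh N := Groth.L21.Extend.isQCoh_of_isInvertible hN
  haveI := h
  haveI : Subsingleton (Coh.HH X (Abelian.image (mulS N φ)) 1) :=
    subsingleton_of_epi (rightExact_of_dim (X := X) k hd) (Abelian.factorThruImage (mulS N φ)) inferInstance
      (isQCoh_image _ inferInstance (Groth.L21.Extend.isQCoh_of_isInvertible hNL))
  obtain ⟨ψ, rfl⟩ := exists_lift (Groth.L16.Devissage.shortExact_image_cokernel (mulS N φ)) φ'
  refine ⟨ψ, surjective_st_of_quotient ψ (cokernel.π (mulS N φ)) e (fun v => he.2 v) (surjective_st_of_epi _ x) ?_⟩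
  intro v
  obtain ⟨w, rfl⟩ := surjective_st_of_epi (cokernel.π (mulS N φ)) x v
  obtain ⟨a, rfl⟩ := he.2 w
  refine ⟨a • one X x, ?_⟩
  show st (ψ ≫ cokernel.π (mulS N φ)) x (a • one X x) = st (cokernel.π (mulS N φ)) x (a • e)
  rw [map_smul, map_smul, ← hq, Groth.L21.RR.st_one_top, hφ']

end Groth.L12.GenusZero
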