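import Groth.Agent.L12.GenusZero.Apps
import Groth.Agent.L22.EnrSev.Basic

/-!
# The associator on elementary tensors; very ampleness of squares
-/

set_option autoImplicit false
set_option linter.style.haveILetI false
set_option linter.unusedSectionVars false
set_option backward.isDefEq.respectTransparency false
set_option backward.isDefEq.respectTransparency.types false

universe u

open CategoryTheory CategoryTheory.Limits AlgebraicGeometry TopologicalSpace Opposite MonoidalCategory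
open scoped TensorProduct

noncomputable section

namespace Groth.L12.GenusZero

open Groth.L00.Tensor (pre shf preF PX unit shfTensorLeft shfTensorRight tensorAssoc tensorIso tensorUnitLeft)
open Groth.L18.GenLoc (tens)

variable {X : Scheme.{u}}

theorem unit_nat {P Q : PX X} (g : P ⟶ Q) (U : X.Opens) (x : P.obj (op U)) :
    ((shf X).map g).app U ((unit P).app (op U) x) = (unit Q).app (op U) (g.app (op U) x) :=
  (congrArg (fun k : P ⟶ pre ((shf X).obj Q) => k.app (op U) x)
    ((Groth.L17.ClosedPush.shAdj X).unit.naturality g)).symm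

/-- The associator on elementary tensors. -/
theorem tensorAssoc_tens (L M N : X.Modules) (U : X.Opens) (l : Γ(L, U)) (m : Γ(M, U)) (n : Γ(N, U)) :
    (tensorAssoc L M N).hom.app U (tens (CohB1.tensorMod L M) N U (tens L M U l m) n) =
      tens L (CohB1.tensorMod M N) U l (tens M N U m n) := by
  let P := pre L ⊗ pre M
  let z : (P ⊗ pre N).obj (op U) :=
    ((l : (pre L).obj (op U)) ⊗ₜ[X.sheaf.obj.obj (op U)] (m : (pre M).obj (op U))) ⊗ₜ[X.sheaf.obj.obj (op U)]
      (n : (pre N).obj (op U))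
  have h1 : tens (CohB1.tensorMod L M) N U (tens L M U l m) n =
      ((shf X).map (unit P ▷ pre N)).app U ((unit (P ⊗ pre N)).app (op U) z) :=
    (unit_nat (unit P ▷ pre N) U z).symm
  rw [h1]
  show (((shf X).map (unit P ▷ pre N)) ≫ (tensorAssoc L M N).hom).app U ((unit (P ⊗ pre N)).app (op U) z) = _
  have h2 : ((shf X).map (unit P ▷ pre N)) ≫ (tensorAssoc L M N).hom =
      (shf X).map (α_ (pre L) (pre M) (pre N)).hom ≫ (shf X).map (pre L ◁ unit (pre M ⊗ pre N)) := by
    haveI := (Groth.L00.Tensor.isIso_shf_map_iff _).2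
      (Groth.L00.Tensor.Wp_whiskerRight (unit P) (pre N) (Groth.L00.Tensor.Wp_unit P))
    show _ ≫ (inv ((shf X).map (unit P ▷ pre N)) ≫ _) = _
    rw [IsIso.hom_inv_id_assoc]
    rfl
  rw [h2]
  show ((shf X).map (pre L ◁ unit (pre M ⊗ pre N))).app U
    (((shf X).map (α_ (pre L) (pre M) (pre N)).hom).app U ((unit (P ⊗ pre N)).app (op U) z)) = _
  rw [unit_nat]
  refine (unit_nat (pre L ◁ unit (pre M ⊗ pre N)) U _).trans ?_
  rfl

open Groth.L16.CohLinear (hmap)

/-- The square of a generated ample module with no first cohomology is very ample. -/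
theorem isRelVeryAmplePn_square {A : Type u} [CommRing A] [IsNoetherianRing A] [X.Over (Spec (CommRingCat.of A))]
    [IsProper (X ↘ Spec (CommRingCat.of A))] (h2 : RightExact X) {L : X.Modules} (hA : CohB1.IsAmple L)
    {r : ℕ} (φ : ULift.{u} (Fin r) → (Coh.structureModule X ⟶ L))
    (hφ : ∀ x, ∃ a, Function.Surjective (Groth.L21.RR.st (φ a) x)) (h1 : Subsingleton (Coh.HH X L 1)) :
    RelAmple.IsRelVeryAmplePn (X ↘ Spec (CommRingCat.of A)) (CohB1.tensorPow L 2) := by
  classical
  have hA2 : CohB1.IsAmple (CohB1.tensorPow L 2) := (Groth.L18.Ample.isAmple_pow_iff hA.1 two_pos).1 hA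
  refine Groth.L12.CurveFam.isRelVeryAmplePn_of_normallyGenerated _ hA2 fun n hn => ?_
  obtain ⟨m, rfl⟩ : ∃ m, n = m + 1 := ⟨n - 1, by omega⟩
  let M := CohB1.tensorPow (CohB1.tensorPow L 2) (m + 1)
  have hL1 : Subsingleton (Coh.HH X (CohB1.tensorPow L 1) 1) :=
    Groth.L22.EnrSev.subsingleton_of_iso (Groth.L00.Tensor.tensorPowOne L).symm 1 h1
  have hpow : ∀ j, 1 ≤ j → Subsingleton (Coh.HH X (CohB1.tensorPow L j) 1) := subsingleton_h1_pow h2 hA.1 φ hφ hL1
  have hi : PicF.IsInvertible (CohB1.tensorPow L (2 * m + 1)) := Groth.L18.Ample.isInvertible_tensorPow hA.1 _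
  let e : CohB1.tensorPow L (2 * m + 1 + 1) ≅ M :=
    (Groth.L00.Tensor.tensorPowMul L 2 (m + 1)).symm
  have hM : PicF.IsInvertible M := Groth.L18.Ample.isInvertible_tensorPow hA2.1 _
  have hM1 : Subsingleton (Coh.HH X M 1) :=
    Groth.L22.EnrSev.subsingleton_of_iso e 1 (hpow _ (by omega))
  refine eq_top_iff.2 fun w _ => ?_
  -- regard `M ⊗ L²` as `(M ⊗ L) ⊗ L`
  let L1 := CohB1.tensorPow L 1
  let u : L1 ≅ L := tensorUnitLeft L
  let α : CohB1.tensorMod (CohB1.tensorMod M L) L ≅ CohB1.tensorMod M (CohB1.tensorPow L 2) :=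
    tensorAssoc M L L ≪≫ tensorIso (Iso.refl M) (tensorIso u.symm (Iso.refl L))
  obtain ⟨t, ht⟩ := exists_sum_mulS h2 hA.1 φ hφ hM hM1 (α.inv.app ⊤ w)
  have hw : w = α.hom.app ⊤ (α.inv.app ⊤ w) := by
    rw [← ConcreteCategory.comp_apply, ← Scheme.Modules.Hom.comp_app, α.inv_hom_id]; rfl
  rw [hw, ht, map_sum]
  refine AddSubgroup.sum_mem _ fun a _ => ?_
  have hgen := span_tmul h2 hA.1 φ hφ hi (hpow _ (by omega)) e
  have hta : t a ∈ (⊤ : AddSubgroup _) := trivial
  rw [← hgen] at hta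
  rw [Groth.L21.RR.mulS_app]
  generalize t a = ta at hta ⊢
  induction hta using AddSubgroup.closure_induction with
  | mem y hy =>
    obtain ⟨p, s, rfl⟩ := hy
    refine AddSubgroup.subset_closure ⟨p, tens L1 L ⊤ (u.inv.app ⊤ s) (Groth.L18.Frame.rs L le_top (Groth.L18.GenLoc.secOf (φ a))), ?_⟩
    show (tensorIso (Iso.refl M) (tensorIso u.symm (Iso.refl L))).hom.app ⊤ ((tensorAssoc M L L).hom.app ⊤
      (tens (CohB1.tensorMod M L) L ⊤ (tens M L ⊤ p s) _)) = _
    rw [tensorAssoc_tens]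
    refine (Groth.L18.Ample.tensorMap_tens (𝟙 M) (tensorIso u.symm (Iso.refl L)).hom ⊤ p _).trans ?_
    refine congrArg (tens M _ ⊤ p) ?_
    exact Groth.L18.Ample.tensorMap_tens u.inv (𝟙 L) ⊤ s _
  | zero =>
    rw [show tens (CohB1.tensorMod M L) L ⊤ 0 _ = 0 from by
      rw [← zero_smul Γ(X, ⊤) (0 : Γ(CohB1.tensorMod M L, ⊤)), Groth.L18.GenLoc.tens_smul_left, zero_smul],
      map_zero]
    exact zero_mem _
  | add y z _ _ hy hz =>
    rw [show tens (CohB1.tensorMod M L) L ⊤ (y + z) _ = _ from Groth.L00.Tensor.ev_add₁ _ _ y z _, map_add]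
    exact add_mem hy hz
  | neg y _ hy =>
    rw [show tens (CohB1.tensorMod M L) L ⊤ (-y) _ = -tens (CohB1.tensorMod M L) L ⊤ y _ from by
      rw [← neg_one_smul Γ(X, ⊤) y, Groth.L18.GenLoc.tens_smul_left, neg_one_smul], map_neg]
    exact neg_mem hy

end Groth.L12.GenusZero
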